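import Groth.Prelude.Def_PP16
import Mathlib.RingTheory.FiniteType

/-!
# Principal parts: generators and universal property

`delta n b = d^n b - b` lies in (and generates) the augmentation ideal, whose `(n+1)`-st power
vanishes; an algebra map out of `P^n_{B/A}` is a pair of algebra maps out of `B` congruent modulo
an ideal with vanishing `(n+1)`-st power.
-/

universe u v

noncomputable section

namespace GrothLib.PrincipalParts

open scoped TensorProduct

variable {n : ℕ} {A B : Type u} [CommRing A] [CommRing B] [Algebra A B]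

variable (n A) in
/-- `d^n b - b`. -/
def delta (b : B) : PP16.P n A B := PP16.dn n A B b - algebraMap B (PP16.P n A B) b

theorem mk_tmul (b c : B) :
    Ideal.Quotient.mk (KaehlerDifferential.ideal A B ^ (n + 1)) (b ⊗ₜ[A] c) =
      algebraMap B (PP16.P n A B) b * PP16.dn n A B c := by
  show _ = Ideal.Quotient.mk _ (b ⊗ₜ[A] (1 : B)) * Ideal.Quotient.mk _ ((1 : B) ⊗ₜ[A] c)
  rw [← map_mul, Algebra.TensorProduct.tmul_mul_tmul, mul_one, one_mul]

theorem algebraMap_dn_comm (a : A) :
    PP16.dn n A B (algebraMap A B a) = algebraMap B (PP16.P n A B) (algebraMap A B a) := by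
  rw [AlgHom.commutes, ← IsScalarTower.algebraMap_apply]

theorem delta_eq_mk (b : B) : delta n A b =
    Ideal.Quotient.mk (KaehlerDifferential.ideal A B ^ (n + 1))
      ((1 : B) ⊗ₜ[A] b - b ⊗ₜ[A] (1 : B)) := by
  rw [map_sub, mk_tmul, mk_tmul, map_one, map_one, one_mul, mul_one]
  rfl

theorem delta_mem (b : B) : delta n A b ∈ PP16.augIdeal n A B := by
  rw [delta_eq_mk]
  exact Ideal.mem_map_of_mem _ (KaehlerDifferential.one_smul_sub_smul_one_mem_ideal A b)

theorem delta_algebraMap (a : A) : delta n A (algebraMap A B a) = 0 :=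
  sub_eq_zero.2 (algebraMap_dn_comm a)

theorem delta_add (b c : B) : delta n A (b + c) = delta n A b + delta n A c := by
  simp only [delta, map_add]; abel

theorem delta_mul (b c : B) : delta n A (b * c) =
    PP16.dn n A B b * delta n A c + algebraMap B (PP16.P n A B) c * delta n A b := by
  simp only [delta, map_mul]; ring

theorem augIdeal_eq_span :
    PP16.augIdeal n A B = Ideal.span (Set.range (delta n A (B := B))) := by
  rw [PP16.augIdeal]
  refine (congrArg (Ideal.map (Ideal.Quotient.mk (KaehlerDifferential.ideal A B ^ (n + 1))))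
    (KaehlerDifferential.span_range_eq_ideal A B).symm).trans ?_
  rw [Ideal.map_span, ← Set.range_comp, show delta n A (B := B) = _ from funext delta_eq_mk]
  rfl

theorem augIdeal_pow_eq_bot : PP16.augIdeal n A B ^ (n + 1) = ⊥ := by
  rw [PP16.augIdeal, ← Ideal.map_pow, Ideal.map_quotient_self]

/-- If `s` generates the algebra then the `delta g`, `g ∈ s`, generate the augmentation ideal. -/
theorem augIdeal_eq_span_of_adjoin {s : Set B} (hs : Algebra.adjoin A s = ⊤) :
    PP16.augIdeal n A B = Ideal.span (delta n A '' s) := by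
  refine le_antisymm ?_ (Ideal.span_le.2 ?_)
  · rw [augIdeal_eq_span, Ideal.span_le]
    rintro _ ⟨b, rfl⟩
    have hb : b ∈ Algebra.adjoin A s := hs ▸ Algebra.mem_top
    induction hb using Algebra.adjoin_induction with
    | mem x hx => exact Ideal.subset_span ⟨x, hx, rfl⟩
    | algebraMap a => rw [delta_algebraMap]; exact zero_mem _
    | add x y _ _ hx hy => rw [delta_add]; exact add_mem hx hy
    | mul x y _ _ hx hy =>
      rw [delta_mul]
      exact add_mem (Ideal.mul_mem_left _ _ hy) (Ideal.mul_mem_left _ _ hx)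
  · rintro _ ⟨b, _, rfl⟩
    exact delta_mem b

theorem span_range_dn : Submodule.span B (Set.range (PP16.dn n A B)) = ⊤ := by
  rw [eq_top_iff]
  rintro x -
  obtain ⟨t, rfl⟩ := Ideal.Quotient.mk_surjective x
  induction t using TensorProduct.induction_on with
  | zero => simp
  | tmul b c =>
    rw [mk_tmul, ← Algebra.smul_def]
    exact Submodule.smul_mem _ _ (Submodule.subset_span ⟨c, rfl⟩)
  | add x y hx hy => rw [map_add]; exact add_mem hx hy

/-- Two additive multiplicative maps out of `P^n` agreeing on both copies of `B` are equal. -/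
theorem ringHom_ext {R : Type v} [Semiring R] {F G : PP16.P n A B →+* R}
    (h₁ : ∀ b, F (algebraMap B (PP16.P n A B) b) = G (algebraMap B (PP16.P n A B) b))
    (h₂ : ∀ b, F (PP16.dn n A B b) = G (PP16.dn n A B b)) : F = G := by
  refine RingHom.ext fun x => ?_
  obtain ⟨t, rfl⟩ := Ideal.Quotient.mk_surjective x
  induction t using TensorProduct.induction_on with
  | zero => simp
  | tmul b c => rw [mk_tmul, map_mul, map_mul, h₁, h₂]
  | add x y hx hy => simp only [map_add, hx, hy]

theorem map_augIdeal_pow_eq_bot {R : Type v} [CommRing R] (q : PP16.P n A B →+* R) :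
    (PP16.augIdeal n A B).map q ^ (n + 1) = ⊥ := by
  rw [← Ideal.map_pow, augIdeal_pow_eq_bot, Ideal.map_bot]

/-- A composite out of `P^n` is determined by the two copies of `B`. -/
theorem comp_apply_eq {R₁ R₂ : Type v} [Semiring R₁] [Semiring R₂] (f : PP16.P n A B →+* R₁)
    (g : R₁ →+* R₂) (q : PP16.P n A B →+* R₂)
    (h₁ : ∀ b, g (f (algebraMap B (PP16.P n A B) b)) = q (algebraMap B (PP16.P n A B) b))
    (h₂ : ∀ b, g (f (PP16.dn n A B b)) = q (PP16.dn n A B b)) (x : PP16.P n A B) :
    g (f x) = q x :=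
  RingHom.congr_fun (ringHom_ext (F := g.comp f) h₁ h₂) x

section lift

variable {R : Type v} [CommRing R] [Algebra A R] (f g : B →ₐ[A] R) (J : Ideal R)

theorem map_ideal_le (h : ∀ b, g b - f b ∈ J) :
    (KaehlerDifferential.ideal A B).map
      (Algebra.TensorProduct.lift f g fun _ _ => Commute.all _ _) ≤ J := by
  rw [← KaehlerDifferential.span_range_eq_ideal, Ideal.map_span, Ideal.span_le]
  rintro _ ⟨_, ⟨b, rfl⟩, rfl⟩
  simpa using h b

/-- The map out of `P^n_{B/A}` given by two maps congruent modulo `J`, `J^(n+1) = 0`. -/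
def lift (h : ∀ b, g b - f b ∈ J) (hJ : J ^ (n + 1) = ⊥) : PP16.P n A B →ₐ[A] R :=
  Ideal.Quotient.liftₐ _ (Algebra.TensorProduct.lift f g fun _ _ => Commute.all _ _) fun x hx => by
    have h' := Ideal.pow_right_mono (n := n + 1) (map_ideal_le f g J h)
    rw [← Ideal.map_pow, hJ] at h'
    exact (Submodule.mem_bot R).1 (h' (Ideal.mem_map_of_mem _ hx))

variable {f g J} (h : ∀ b, g b - f b ∈ J) (hJ : J ^ (n + 1) = ⊥)

theorem lift_algebraMap (b : B) : lift f g J h hJ (algebraMap B (PP16.P n A B) b) = f b := by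
  show Algebra.TensorProduct.lift f g (fun _ _ => Commute.all _ _) (b ⊗ₜ[A] (1 : B)) = f b
  simp

theorem lift_dn (b : B) : lift f g J h hJ (PP16.dn n A B b) = g b := by
  show Algebra.TensorProduct.lift f g (fun _ _ => Commute.all _ _) ((1 : B) ⊗ₜ[A] b) = g b
  simp

theorem lift_delta (b : B) : lift f g J h hJ (delta n A b) = g b - f b := by
  rw [delta, map_sub, lift_dn, lift_algebraMap]

theorem map_augIdeal_lift_le : (PP16.augIdeal n A B).map (lift f g J h hJ) ≤ J := by
  rw [augIdeal_eq_span, Ideal.map_span, Ideal.span_le]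
  rintro _ ⟨_, ⟨b, rfl⟩, rfl⟩
  simpa [lift_delta] using h b

end lift

/-- The augmentation `P^n_{B/A} → B`. -/
def aug : PP16.P n A B →ₐ[A] B :=
  lift (AlgHom.id A B) (AlgHom.id A B) ⊥ (fun b => by simp) (by rw [pow_succ, Ideal.mul_bot])

theorem aug_algebraMap (b : B) : aug (algebraMap B (PP16.P n A B) b) = b := lift_algebraMap _ _ b

theorem algebraMap_injective : Function.Injective (algebraMap B (PP16.P n A B)) :=
  Function.LeftInverse.injective aug_algebraMap

theorem sub_algebraMap_aug_mem (x : PP16.P n A B) :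
    x - algebraMap B (PP16.P n A B) (aug x) ∈ PP16.augIdeal n A B := by
  have hx : x ∈ Submodule.span B (Set.range (PP16.dn n A B)) := (span_range_dn (n := n) (A := A) (B := B)) ▸ Submodule.mem_top
  induction hx using Submodule.span_induction with
  | mem y hy =>
    obtain ⟨b, rfl⟩ := hy
    rw [aug, lift_dn]
    exact delta_mem b
  | zero => simp
  | add y z _ _ hy hz => rw [map_add, map_add, add_sub_add_comm]; exact add_mem hy hz
  | smul b y _ hy =>
    rw [Algebra.smul_def, map_mul, aug_algebraMap, map_mul, ← mul_sub]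
    exact Ideal.mul_mem_left _ _ hy

variable (n) in
theorem span_range_monomial_delta {s : Set B} (hs : Algebra.adjoin A s = ⊤) :
    Algebra.adjoin B (delta n A '' s) = ⊤ := by
  rw [eq_top_iff]
  rintro x -
  have hx : x ∈ Submodule.span B (Set.range (PP16.dn n A B)) := (span_range_dn (n := n) (A := A) (B := B)) ▸ Submodule.mem_top
  refine Submodule.span_le (p := Subalgebra.toSubmodule (Algebra.adjoin B (delta n A '' s))).2 ?_ hx
  rintro _ ⟨b, rfl⟩
  have hle : Algebra.adjoin A s ≤
      ((Algebra.adjoin B (delta n A '' s)).restrictScalars A).comap (PP16.dn n A B) := by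
    refine Algebra.adjoin_le fun g hg => ?_
    show PP16.dn n A B g ∈ Algebra.adjoin B (delta n A '' s)
    rw [show PP16.dn n A B g = algebraMap B (PP16.P n A B) g + delta n A g by simp [delta]]
    exact add_mem (Subalgebra.algebraMap_mem _ g) (Algebra.subset_adjoin ⟨g, hg, rfl⟩)
  rw [hs] at hle
  exact hle Algebra.mem_top

theorem isNilpotent_delta (b : B) : IsNilpotent (delta n A b) := by
  refine ⟨n + 1, ?_⟩
  have := Ideal.pow_mem_pow (delta_mem (n := n) (A := A) b) (n + 1)
  rwa [augIdeal_pow_eq_bot, Ideal.mem_bot] at this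

theorem finite_of_finiteType [Algebra.FiniteType A B] : Module.Finite B (PP16.P n A B) := by
  obtain ⟨s, hs⟩ := Algebra.FiniteType.out (R := A) (A := B)
  rw [Module.finite_def, ← Algebra.top_toSubmodule, ← span_range_monomial_delta n hs]
  refine fg_adjoin_of_finite (s.finite_toSet.image _) ?_
  rintro _ ⟨g, _, rfl⟩
  obtain ⟨k, hk⟩ := isNilpotent_delta (n := n) (A := A) g
  exact ⟨Polynomial.X ^ k, Polynomial.monic_X_pow k, by simp [Polynomial.eval₂_X_pow, hk]⟩

end GrothLib.PrincipalParts
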