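import Groth.Agent.Lib.PrincipalParts.Graded
import Mathlib.RingTheory.MvPolynomial.Ideal
import Mathlib.RingTheory.Smooth.Basic
import Mathlib.RingTheory.MvPolynomial.EulerIdentity

/-!
# Differential smoothness: formally smooth algebras, and characteristic zero
-/

universe u v w

noncomputable section

namespace GrothLib.PrincipalParts

open scoped TensorProduct
open MvPolynomial

section congr

variable {B : Type u} [CommRing B] {R : Type v} [CommRing R] [Algebra B R] {σ : Type w}

theorem aeval_sub_aeval_mem (I : Ideal R) (x y : σ → R) (hx : ∀ j, x j ∈ I) (hy : ∀ j, y j ∈ I)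
    (hxy : ∀ j, x j - y j ∈ I ^ 2) {k : ℕ} {h : MvPolynomial σ B} (hh : h.IsHomogeneous k) :
    aeval x h - aeval y h ∈ I ^ (k + 1) := by
  rw [h.as_sum, map_sum, map_sum, ← Finset.sum_sub_distrib]
  refine Ideal.sum_mem _ fun d hd => ?_
  have hdeg : d.degree = k := by
    rw [Finsupp.degree_eq_weight_one]; exact hh (mem_support_iff.1 hd)
  obtain ⟨e, he⟩ := exists_enum (ι := ULift.{u} (Fin k)) d (by simpa using hdeg)
  have hmon : monomial d (coeff d h) = C (coeff d h) * ∏ i, X (e i) := by
    rw [← he, monomial_sum_index]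
    rfl
  rw [hmon, map_mul, map_mul, map_prod, map_prod, aeval_C, aeval_C, ← mul_sub]
  refine Ideal.mul_mem_left _ _ ?_
  simp only [aeval_X]
  have := prod_sub_prod_mem I Finset.univ (fun i => x (e i)) (fun i => y (e i))
    (fun i _ => hx _) (fun i _ => hy _) (fun i _ => hxy _)
  simpa using this

end congr

variable (A B : Type u) [CommRing A] [CommRing B] [Algebra A B]

/-- The class of an element of the diagonal ideal in `Ω`, linear over `B`. -/
def cot : ↥((KaehlerDifferential.ideal A B).restrictScalars B) →ₗ[B] KaehlerDifferential A B :=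
  (KaehlerDifferential.ideal A B).toCotangent.restrictScalars B

/-- Multiplication, as a map of algebras over the first factor. -/
def mulLeftLin : B ⊗[A] B →ₐ[B] B :=
  Algebra.TensorProduct.lift (AlgHom.id B B) (AlgHom.id A B) fun _ _ => Commute.all _ _

variable {A B} in
theorem mulLeftLin_eq (x : B ⊗[A] B) : mulLeftLin A B x = Algebra.TensorProduct.lmul' A x := by
  induction x using TensorProduct.induction_on with
  | zero => simp
  | tmul b c => simp [mulLeftLin]
  | add x y hx hy => rw [map_add, map_add, hx, hy]

variable {A B} in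
theorem mem_ideal_iff_mulLeftLin (x : B ⊗[A] B) :
    x ∈ KaehlerDifferential.ideal A B ↔ mulLeftLin A B x = 0 := by
  rw [mulLeftLin_eq]; rfl

variable {A B} in
theorem ideal_linearMap_ext {N : Type v} [AddCommGroup N] [Module B N]
    {F G : ↥((KaehlerDifferential.ideal A B).restrictScalars B) →ₗ[B] N}
    (h : ∀ c : B, F ⟨del A c, del_mem c⟩ = G ⟨del A c, del_mem c⟩) : F = G := by
  refine LinearMap.ext fun x => ?_
  obtain ⟨x, hx⟩ := x
  have hx' : x ∈ Submodule.span B (Set.range fun b : B => del A b) := by
    rw [KaehlerDifferential.submodule_span_range_eq_ideal]; exact hx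
  induction hx' using Submodule.span_induction with
  | mem y hy => obtain ⟨c, rfl⟩ := hy; exact h c
  | zero =>
    rw [show (⟨0, hx⟩ : ↥((KaehlerDifferential.ideal A B).restrictScalars B)) = 0 from rfl,
      map_zero, map_zero]
  | add y z hy hz ihy ihz =>
    have hyI : y ∈ (KaehlerDifferential.ideal A B).restrictScalars B :=
      KaehlerDifferential.submodule_span_range_eq_ideal A B ▸ hy
    have hzI : z ∈ (KaehlerDifferential.ideal A B).restrictScalars B :=
      KaehlerDifferential.submodule_span_range_eq_ideal A B ▸ hz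
    rw [show (⟨y + z, hx⟩ : ↥((KaehlerDifferential.ideal A B).restrictScalars B)) =
      ⟨y, hyI⟩ + ⟨z, hzI⟩ from rfl, map_add, map_add, ihy hyI, ihz hzI]
  | smul a y hy ihy =>
    have hyI : y ∈ (KaehlerDifferential.ideal A B).restrictScalars B :=
      KaehlerDifferential.submodule_span_range_eq_ideal A B ▸ hy
    rw [show (⟨a • y, hx⟩ : ↥((KaehlerDifferential.ideal A B).restrictScalars B)) =
      a • ⟨y, hyI⟩ from rfl, map_smul, map_smul, ihy hyI]

theorem isDiffSmooth_of_formallySmooth [Algebra.FormallySmooth A B] : PP16.IsDiffSmooth A B := by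
  classical
  refine ⟨inferInstance, fun ι _ => ?_⟩
  obtain ⟨s, hs⟩ := Module.projective_def'.1
    (inferInstance : Module.Projective B (KaehlerDifferential A B))
  set Om := KaehlerDifferential A B with hOm
  let r : (Om →₀ B) →ₗ[B] Om := Finsupp.linearCombination B id
  have hrs : ∀ x, r (s x) = x := fun x => LinearMap.congr_fun hs x
  have hsurj := (KaehlerDifferential.ideal A B).toCotangent_surjective
  let u : Om → B ⊗[A] B := fun j => ((hsurj (r (Finsupp.single j 1))).choose : B ⊗[A] B)
  have hu : ∀ j, u j ∈ KaehlerDifferential.ideal A B := fun j =>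
    (hsurj (r (Finsupp.single j 1))).choose.2
  have hr : ∀ j, (KaehlerDifferential.ideal A B).toCotangent ⟨u j, hu j⟩ =
      r (Finsupp.single j 1) := fun j => (hsurj (r (Finsupp.single j 1))).choose_spec
  refine exists_graded_bijective u hu r hr s hrs (fun k h hh hp hmem => ?_) ι
  -- the Taylor homomorphism into the truncated polynomial ring
  let V := idealOfVars Om B
  let d : B → MvPolynomial Om B := fun c => linForm (s (KaehlerDifferential.D A B c))
  have hd : ∀ c, d c ∈ V := fun c => linForm_mem_idealOfVars _
  let q1 := Ideal.Quotient.mkₐ A (V ^ 2)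
  let g1 : B →ₐ[A] MvPolynomial Om B ⧸ V ^ 2 :=
    { toFun := fun c => q1 (C c + d c)
      map_one' := by simp [d]
      map_mul' := fun x y => by
        rw [← map_mul, ← sub_eq_zero, ← map_sub, Ideal.Quotient.mkₐ_eq_mk,
          Ideal.Quotient.eq_zero_iff_mem]
        have e : C (x * y) + d (x * y) - (C x + d x) * (C y + d y) = -(d x * d y) := by
          have : d (x * y) = C x * d y + C y * d x := by
            simp [d, smul_eq_C_mul]
          rw [this, map_mul]; ring
        rw [e, pow_two]
        exact neg_mem (Ideal.mul_mem_mul (hd x) (hd y))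
      map_zero' := by simp [d]
      map_add' := fun x y => by
        rw [← map_add]
        congr 1
        simp [d]
        abel
      commutes' := fun a => by
        have : d (algebraMap A B a) = 0 := by simp [d]
        rw [this, add_zero, ← MvPolynomial.algebraMap_eq, ← IsScalarTower.algebraMap_apply]
        exact q1.commutes a }
  let π : (MvPolynomial Om B ⧸ V ^ (k + 2)) →ₐ[A] MvPolynomial Om B ⧸ V ^ 2 :=
    Ideal.Quotient.factorₐ A (Ideal.pow_le_pow_right (by omega : 2 ≤ k + 2))
  have hπ : Function.Surjective π := fun x => by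
    obtain ⟨f, rfl⟩ := Ideal.Quotient.mk_surjective x
    exact ⟨Ideal.Quotient.mk _ f, rfl⟩
  let mk := Ideal.Quotient.mk (V ^ (k + 2))
  let M := V.map mk
  have hker : RingHom.ker π.toRingHom ≤ M ^ 2 := by
    intro x hx
    obtain ⟨f, rfl⟩ := Ideal.Quotient.mk_surjective x
    rw [← Ideal.map_pow]
    exact Ideal.mem_map_of_mem _ (Ideal.Quotient.eq_zero_iff_mem.1 hx)
  have hnil : IsNilpotent (RingHom.ker π.toRingHom) := ⟨k + 2, by
    rw [Ideal.zero_eq_bot, eq_bot_iff]
    refine (Ideal.pow_right_mono hker _).trans ?_
    rw [← pow_mul]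
    refine (Ideal.pow_le_pow_right (by omega : k + 2 ≤ 2 * (k + 2))).trans ?_
    rw [← Ideal.map_pow, Ideal.map_quotient_self]⟩
  let ψ := Algebra.FormallySmooth.liftOfSurjective g1 π hπ hnil
  let Λ : B ⊗[A] B →ₐ[B] MvPolynomial Om B ⧸ V ^ (k + 2) :=
    Algebra.TensorProduct.lift (Algebra.ofId B _) ψ fun _ _ => Commute.all _ _
  have hψ : ∀ c, Λ (del A c) - mk (d c) ∈ M ^ 2 := fun c => by
    refine hker ?_
    show π (Λ (del A c) - mk (d c)) = 0
    have h1 : Λ (del A c) = ψ c - mk (C c) := by
      rw [map_sub, Algebra.TensorProduct.lift_tmul, Algebra.TensorProduct.lift_tmul]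
      simp only [map_one, one_mul, mul_one]
      rfl
    rw [h1, map_sub, map_sub, Algebra.FormallySmooth.liftOfSurjective_apply]
    show q1 (C c + d c) - q1 (C c) - q1 (d c) = 0
    rw [map_add]; ring
  have hM2 : M ^ 2 ≤ M := Ideal.pow_le_self two_ne_zero
  have hle : (KaehlerDifferential.ideal A B).map Λ ≤ M := by
    rw [← KaehlerDifferential.span_range_eq_ideal, Ideal.map_span, Ideal.span_le]
    rintro _ ⟨_, ⟨c, rfl⟩, rfl⟩
    simpa using add_mem (hM2 (hψ c)) (Ideal.mem_map_of_mem mk (hd c))
  have hlin : ∀ (x : B ⊗[A] B) (hx : x ∈ KaehlerDifferential.ideal A B),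
      Λ x - mk (linForm (s (cot A B ⟨x, hx⟩))) ∈ M ^ 2 := by
    intro x hx
    let q := ((M ^ 2).restrictScalars B).mkQ
    have hFG : q ∘ₗ Λ.toLinearMap ∘ₗ
        ((KaehlerDifferential.ideal A B).restrictScalars B).subtype =
        q ∘ₗ (Ideal.Quotient.mkₐ B (V ^ (k + 2))).toLinearMap ∘ₗ linForm ∘ₗ s ∘ₗ cot A B :=
      ideal_linearMap_ext fun c => (Submodule.Quotient.eq _).2 (hψ c)
    exact (Submodule.Quotient.eq _).1 (LinearMap.congr_fun hFG ⟨x, hx⟩)
  have hcong := aeval_sub_aeval_mem M (fun j => Λ (u j))
    (fun j => mk (linForm (s (r (Finsupp.single j 1)))))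
    (fun j => hle (Ideal.mem_map_of_mem Λ (hu j)))
    (fun j => Ideal.mem_map_of_mem mk (linForm_mem_idealOfVars _))
    (fun j => by rw [← hr j]; exact hlin _ (hu j)) hh
  have h1 : aeval (fun j => Λ (u j)) h = Λ (toDiag u h) :=
    (AlgHom.congr_fun (comp_aeval u Λ) h).symm
  have h2 : aeval (fun j => mk (linForm (s (r (Finsupp.single j 1))))) h = mk h := by
    conv_rhs => rw [← hp]
    exact (AlgHom.congr_fun (comp_aeval _ (Ideal.Quotient.mkₐ B (V ^ (k + 2)))) h).symm
  have h3 : Λ (toDiag u h) ∈ M ^ (k + 1) := by
    have := Ideal.mem_map_of_mem Λ hmem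
    rw [Ideal.map_pow] at this
    exact Ideal.pow_right_mono hle _ this
  rw [h1, h2] at hcong
  have h4 : mk h ∈ M ^ (k + 1) := by simpa using sub_mem h3 hcong
  rw [← Ideal.map_pow, Ideal.mem_map_iff_of_surjective _ Ideal.Quotient.mk_surjective] at h4
  obtain ⟨f, hf, hfh⟩ := h4
  rw [Ideal.Quotient.eq] at hfh
  have hmemV : h ∈ V ^ (k + 1) := by
    have := sub_mem hf (Ideal.pow_le_pow_right (by omega : k + 1 ≤ k + 2) hfh)
    simpa using this
  rw [mem_pow_idealOfVars_iff'] at hmemV
  ext x
  rw [coeff_zero]
  by_contra hne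
  have : x.degree = k := by rw [Finsupp.degree_eq_weight_one]; exact hh hne
  exact hne (hmemV x (by omega))

/-- Extension of a derivation of `B` to `B ⊗ B`, linear over the first factor. -/
theorem exists_derivation_right (δ : Derivation A B B) :
    ∃ D' : Derivation B (B ⊗[A] B) (B ⊗[A] B), ∀ b c, D' (b ⊗ₜ[A] c) = b ⊗ₜ[A] δ c := by
  let L : B ⊗[A] B →ₗ[B] B ⊗[A] B :=
    TensorProduct.AlgebraTensorModule.lTensor B B δ.toLinearMap
  refine ⟨Derivation.mk' L fun x y => ?_, fun b c => rfl⟩
  induction x using TensorProduct.induction_on with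
  | zero => simp
  | add x x' hx hx' => simp only [add_mul, map_add, hx, hx', smul_eq_mul, mul_add]; abel
  | tmul b c =>
    induction y using TensorProduct.induction_on with
    | zero => simp
    | add y y' hy hy' => simp only [mul_add, map_add, hy, hy', smul_eq_mul, add_mul]; abel
    | tmul b' c' =>
      rw [Algebra.TensorProduct.tmul_mul_tmul]
      simp [L, TensorProduct.tmul_add, mul_comm b' b]

variable {A B}

theorem derivation_mem_pow (D' : Derivation B (B ⊗[A] B) (B ⊗[A] B)) (m : ℕ) {x : B ⊗[A] B}
    (hx : x ∈ KaehlerDifferential.ideal A B ^ (m + 1)) :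
    D' x ∈ KaehlerDifferential.ideal A B ^ m := by
  induction m generalizing x with
  | zero => simp
  | succ m ih =>
    rw [pow_succ] at hx
    refine Submodule.mul_induction_on hx (fun y hy z hz => ?_) fun y z hy hz => ?_
    · rw [Derivation.leibniz, smul_eq_mul, smul_eq_mul]
      refine add_mem (Ideal.mul_mem_right _ _ hy) ?_
      rw [pow_succ', ]
      exact Ideal.mul_mem_mul hz (ih hy)
    · rw [map_add]; exact add_mem hy hz

theorem isDiffSmooth_of_charZero_of_free [Algebra ℚ B]
    (hΩ : Module.Free B (KaehlerDifferential A B)) : PP16.IsDiffSmooth A B := by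
  classical
  refine ⟨inferInstance, fun ι _ => ?_⟩
  obtain ⟨⟨σ, b⟩⟩ := hΩ.exists_basis
  have hsurj := (KaehlerDifferential.ideal A B).toCotangent_surjective
  let u : σ → B ⊗[A] B := fun j => ((hsurj (b j)).choose : B ⊗[A] B)
  have hu : ∀ j, u j ∈ KaehlerDifferential.ideal A B := fun j => (hsurj (b j)).choose.2
  have hr : ∀ j, (KaehlerDifferential.ideal A B).toCotangent ⟨u j, hu j⟩ =
      b.repr.symm.toLinearMap (Finsupp.single j 1) := fun j => by
    rw [LinearEquiv.coe_coe, Module.Basis.repr_symm_single, one_smul]
    exact (hsurj (b j)).choose_spec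
  refine exists_graded_bijective u hu b.repr.symm.toLinearMap hr b.repr.toLinearMap
    (fun x => b.repr.symm_apply_apply x) (fun k h hh _ hmem => ?_) ι
  induction k generalizing h with
  | zero =>
    rw [← totalDegree_zero_iff_isHomogeneous, totalDegree_eq_zero_iff_eq_C] at hh
    rw [hh] at hmem ⊢
    rw [toDiag, aeval_C] at hmem
    have h0 : Algebra.TensorProduct.lmul' A (S := B) (algebraMap B (B ⊗[A] B) (coeff 0 h)) = 0 := by
      rw [pow_one] at hmem
      exact hmem
    simp only [Algebra.TensorProduct.algebraMap_apply, Algebra.TensorProduct.lmul'_apply_tmul,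
      Algebra.algebraMap_self, RingHom.id_apply, mul_one] at h0
    rw [h0, map_zero]
  | succ k ih =>
    have key : ∀ i, pderiv i h = 0 := by
      intro i
      let δ : Derivation A B B :=
        (KaehlerDifferential.linearMapEquivDerivation A B) (b.coord i)
      obtain ⟨D', hD'⟩ := exists_derivation_right A B δ
      have hD'u : ∀ j, D' (u j) - algebraMap B (B ⊗[A] B) (if j = i then 1 else 0) ∈
          KaehlerDifferential.ideal A B := by
        intro j
        have hFG : (mulLeftLin A B).toLinearMap ∘ₗ D'.toLinearMap ∘ₗ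
            ((KaehlerDifferential.ideal A B).restrictScalars B).subtype =
            b.coord i ∘ₗ cot A B := ideal_linearMap_ext fun c => by
          show mulLeftLin A B (D' (del A c)) = _
          rw [map_sub, map_sub, hD', hD', Derivation.map_one_eq_zero, TensorProduct.tmul_zero,
            map_zero, sub_zero, mulLeftLin_eq, Algebra.TensorProduct.lmul'_apply_tmul, one_mul]
          rfl
        have hv : mulLeftLin A B (D' (u j)) = b.coord i (b.repr.symm (Finsupp.single j 1)) := by
          rw [← LinearEquiv.coe_coe b.repr.symm, ← hr j]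
          exact LinearMap.congr_fun hFG ⟨u j, hu j⟩
        rw [mem_ideal_iff_mulLeftLin, map_sub, hv, AlgHom.commutes]
        simp [Finsupp.single_apply]
      have hE : ∀ (m : ℕ) (g : MvPolynomial σ B), g.IsHomogeneous m →
          D' (toDiag u g) - toDiag u (pderiv i g) ∈ KaehlerDifferential.ideal A B ^ m := by
        intro m g hg
        rw [g.as_sum, map_sum (toDiag u), map_sum D', map_sum (pderiv i), map_sum (toDiag u),
          ← Finset.sum_sub_distrib]
        refine Ideal.sum_mem _ fun d hd => ?_
        have hdeg : d.degree = m := by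
          rw [Finsupp.degree_eq_weight_one]; exact hg (mem_support_iff.1 hd)
        obtain ⟨e, he⟩ := exists_enum (ι := ULift.{u} (Fin m)) d (by simpa using hdeg)
        have hmon : monomial d (coeff d g) = coeff d g • ∏ i, X (e i) := by
          rw [← he, monomial_sum_index, smul_eq_C_mul]
          rfl
        rw [hmon, map_smul (toDiag u), Derivation.map_smul, Derivation.map_smul,
          map_smul (toDiag u), ← smul_sub]
        refine Submodule.smul_of_tower_mem _ _ ?_
        have main : ∀ t : Finset (ULift.{u} (Fin m)),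
            D' (toDiag u (∏ i ∈ t, X (e i))) - toDiag u (pderiv i (∏ i ∈ t, X (e i))) ∈
              KaehlerDifferential.ideal A B ^ t.card := by
          intro t
          induction t using Finset.induction_on with
          | empty => simp
          | insert a t ha iht =>
            rw [Finset.prod_insert ha, Finset.card_insert_of_notMem ha, map_mul (toDiag u),
              Derivation.leibniz, Derivation.leibniz, map_add (toDiag u), smul_eq_mul, smul_eq_mul,
              smul_eq_mul, smul_eq_mul, map_mul, map_mul, toDiag, aeval_X, ← toDiag,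
              add_sub_add_comm, ← mul_sub, ← mul_sub]
            refine add_mem ?_ ?_
            · rw [pow_succ']
              exact Ideal.mul_mem_mul (hu _) iht
            · rw [pow_succ]
              refine Ideal.mul_mem_mul ?_ ?_
              · have := Ideal.prod_mem_prod (s := t) (I := fun _ => KaehlerDifferential.ideal A B)
                  (x := fun i => u (e i)) fun i _ => hu (e i)
                simpa [map_prod, toDiag] using this
              · have h5 : toDiag u (pderiv i (X (e a))) =
                    algebraMap B (B ⊗[A] B) (if e a = i then 1 else 0) := by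
                  rw [pderiv_X, Pi.single_apply]
                  by_cases h6 : e a = i
                  · simp [h6, Algebra.TensorProduct.one_def]
                  · simp [h6]
                rw [h5]
                exact hD'u _
        simpa using main Finset.univ
      refine ih _ (by simpa using hh.pderiv) (by simp [proj, linForm]) ?_
      have h1 := derivation_mem_pow D' (k + 1) hmem
      have h2 := sub_mem h1 (hE _ _ hh)
      simpa using h2
    ext d
    rw [coeff_zero]
    by_contra hne
    have hdeg : d.degree = k + 1 := by rw [Finsupp.degree_eq_weight_one]; exact hh hne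
    obtain ⟨i, hi⟩ : d.support.Nonempty := by
      rw [Finsupp.support_nonempty_iff]; rintro rfl; simp at hdeg
    have hle : Finsupp.single i 1 ≤ d :=
      Finsupp.single_le_iff.2 (Nat.one_le_iff_ne_zero.2 (Finsupp.mem_support_iff.1 hi))
    have h0 : coeff (d - Finsupp.single i 1) (pderiv i h) = 0 := by rw [key i, coeff_zero]
    rw [coeff_pderiv, tsub_add_cancel_of_le hle, ← Nat.cast_succ] at h0
    refine hne ((IsUnit.mul_left_eq_zero ?_).1 h0)
    have : IsUnit ((Nat.succ ((d - Finsupp.single i 1 : σ →₀ ℕ) i) : ℕ) : ℚ) :=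
      isUnit_iff_ne_zero.2 (Nat.cast_ne_zero.2 (Nat.succ_ne_zero _))
    simpa using this.map (algebraMap ℚ B)

end GrothLib.PrincipalParts
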