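import Groth.Agent.Lib.SymGr.Smooth
import Groth.Agent.Lib.PrincipalParts.Smooth
import Mathlib

/-!
# Differential smoothness as adic formal smoothness along the diagonal

`B` is differentially smooth over `A` iff `B ⊗[A] B` is formally smooth over `B` for the adic
topology of the diagonal ideal.
-/

universe u

noncomputable section

namespace GrothLib.DiffSmoothAdic

open scoped TensorProduct
open GrothLib.PrincipalParts

variable (A B : Type u) [CommRing A] [CommRing B] [Algebra A B]

local notation "I" => KaehlerDifferential.ideal A B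

/-- A symmetric power over `B ⊗[A] B`, as a module over `B` through the first factor. -/
scoped instance symModule {M : Type u} [AddCommGroup M] [Module (B ⊗[A] B) M] (ι : Type u) :
    Module B (SymmetricPower (B ⊗[A] B) ι M) :=
  Module.compHom _ (algebraMap B (B ⊗[A] B))

scoped instance symTower {M : Type u} [AddCommGroup M] [Module (B ⊗[A] B) M] (ι : Type u) :
    IsScalarTower B (B ⊗[A] B) (SymmetricPower (B ⊗[A] B) ι M) :=
  ⟨fun b c x => by rw [Algebra.smul_def, mul_smul]; rfl⟩

/-- Linear forms on symmetric powers of `Ω` are determined on products of exact forms. -/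
theorem span_tprod_D (ι : Type u) [Fintype ι] :
    Submodule.span B (Set.range fun b : ι → B =>
      SymmetricPower.tprod B (fun i => KaehlerDifferential.D A B (b i))) = ⊤ := by
  classical
  set p := Submodule.span B (Set.range fun b : ι → B =>
      SymmetricPower.tprod B (fun i => KaehlerDifferential.D A B (b i))) with hp
  let r : (B →₀ B) →ₗ[B] KaehlerDifferential A B :=
    Finsupp.linearCombination B (fun b => KaehlerDifferential.D A B b)
  have hr : Function.Surjective r := fun y => by
    have : y ∈ Submodule.span B (Set.range (KaehlerDifferential.D A B)) :=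
      (KaehlerDifferential.span_range_derivation A B) ▸ Submodule.mem_top
    exact Finsupp.mem_span_range_iff_exists_finsupp.1 this
  have h0 : (p.mkQ.compMultilinearMap (SymmetricPower.tprod B (ι := ι)
      (M := KaehlerDifferential A B))).compLinearMap (fun _ => r) = 0 := by
    refine Module.Basis.ext_multilinear (fun _ => Finsupp.basisSingleOne) fun e => ?_
    show p.mkQ (SymmetricPower.tprod B fun i => r (Finsupp.basisSingleOne (e i))) = 0
    rw [show (fun i => r (Finsupp.basisSingleOne (e i))) = fun i => KaehlerDifferential.D A B (e i) from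
      funext fun i => by simp [r]]
    exact (Submodule.Quotient.mk_eq_zero p).2 (Submodule.subset_span ⟨e, rfl⟩)
  rw [eq_top_iff, ← SymmetricPower.span_tprod_eq_top B ι (KaehlerDifferential A B), Submodule.span_le]
  rintro _ ⟨x, rfl⟩
  choose v hv using fun i => hr (x i)
  have := DFunLike.congr_fun h0 v
  simp only [MultilinearMap.compLinearMap_apply, MultilinearMap.zero_apply,
    LinearMap.compMultilinearMap_apply, hv] at this
  exact (Submodule.Quotient.mk_eq_zero p).1 this

/-- The comparison `Sym_B Ω → Sym_{B ⊗ B} (I/I²)`. -/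
theorem exists_symMap (ι : Type u) [Fintype ι] [Nonempty ι] :
    ∃ π : SymmetricPower B ι (KaehlerDifferential A B) →ₗ[B] SymmetricPower (B ⊗[A] B) ι (I).Cotangent,
      (∀ x : ι → (I).Cotangent, π (SymmetricPower.tprod B x) = SymmetricPower.tprod (B ⊗[A] B) x) ∧
        Function.Bijective π := by
  classical
  let π : SymmetricPower B ι (KaehlerDifferential A B) →ₗ[B] SymmetricPower (B ⊗[A] B) ι (I).Cotangent :=
    symLift ((SymmetricPower.tprod (B ⊗[A] B) (ι := ι) (M := (I).Cotangent)).restrictScalars B)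
      fun e x => SymmetricPower.tprod_equiv e x
  have hπ : ∀ x : ι → (I).Cotangent, π (SymmetricPower.tprod B x) = SymmetricPower.tprod (B ⊗[A] B) x :=
    fun x => symLift_tprod _ _ x
  letI : Module (B ⊗[A] B) (SymmetricPower B ι (KaehlerDifferential A B)) :=
    Module.compHom _ (mulLeftLin A B).toRingHom
  have hact : ∀ (c : B ⊗[A] B) (a : (I).Cotangent), c • a = (mulLeftLin A B c) • a := fun c a => by
    obtain ⟨x, rfl⟩ := Ideal.toCotangent_surjective _ a
    rw [← algebraMap_smul (B ⊗[A] B) (mulLeftLin A B c), ← map_smul, ← map_smul, Ideal.toCotangent_eq,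
      SetLike.val_smul, SetLike.val_smul, smul_eq_mul, smul_eq_mul, ← sub_mul, pow_two]
    refine Ideal.mul_mem_mul ?_ x.2
    rw [mem_ideal_iff_mulLeftLin, map_sub, AlgHom.commutes, Algebra.algebraMap_self, RingHom.id_apply,
      sub_self]
  let m : MultilinearMap (B ⊗[A] B) (fun _ : ι => (I).Cotangent)
      (SymmetricPower B ι (KaehlerDifferential A B)) :=
    { toFun := fun x => SymmetricPower.tprod B x
      map_update_add' := fun x i a b => (SymmetricPower.tprod B).map_update_add x i a b
      map_update_smul' := fun x i c a => by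
        rw [hact]
        exact (SymmetricPower.tprod B).map_update_smul x i (mulLeftLin A B c) a }
  let ρ : SymmetricPower (B ⊗[A] B) ι (I).Cotangent →ₗ[B ⊗[A] B]
      SymmetricPower B ι (KaehlerDifferential A B) :=
    symLift m fun e x => SymmetricPower.tprod_equiv e x
  have hρ : ∀ x : ι → (I).Cotangent, ρ (SymmetricPower.tprod (B ⊗[A] B) x) = SymmetricPower.tprod B x :=
    fun x => symLift_tprod _ _ x
  refine ⟨π, hπ, Function.bijective_iff_has_inverse.2 ⟨ρ, fun z => ?_, fun z => ?_⟩⟩
  · have hz : z ∈ Submodule.span B (Set.range (SymmetricPower.tprod B (ι := ι)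
        (M := KaehlerDifferential A B))) :=
      (SymmetricPower.span_tprod_eq_top B ι (KaehlerDifferential A B)) ▸ Submodule.mem_top
    induction hz using Submodule.span_induction with
    | mem y hy =>
      obtain ⟨x, rfl⟩ := hy
      exact (congrArg ρ (hπ x)).trans (hρ x)
    | zero => rw [map_zero, map_zero]
    | add y w _ _ hy hw => rw [map_add, map_add, hy, hw]
    | smul c y _ hy =>
      rw [map_smul, ← algebraMap_smul (B ⊗[A] B) c (π y), map_smul, hy]
      show mulLeftLin A B (algebraMap B (B ⊗[A] B) c) • y = c • y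
      rw [AlgHom.commutes, Algebra.algebraMap_self, RingHom.id_apply]
  · have hz : z ∈ Submodule.span (B ⊗[A] B) (Set.range (SymmetricPower.tprod (B ⊗[A] B) (ι := ι)
        (M := (I).Cotangent))) :=
      (SymmetricPower.span_tprod_eq_top (B ⊗[A] B) ι (I).Cotangent) ▸ Submodule.mem_top
    induction hz using Submodule.span_induction with
    | mem y hy =>
      obtain ⟨x, rfl⟩ := hy
      exact (congrArg π (hρ x)).trans (hπ x)
    | zero => rw [map_zero, map_zero]
    | add y w _ _ hy hw => rw [map_add, map_add, hy, hw]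
    | smul c y _ hy =>
      rw [map_smul]
      show π (mulLeftLin A B c • ρ y) = c • y
      rw [map_smul, hy]
      have htors : ∀ a : ↥(I), (a : B ⊗[A] B) • y = 0 := fun a => GrothLib.SymGr.torsion (I) (x := y) (a := a)
      rw [← algebraMap_smul (B ⊗[A] B) (mulLeftLin A B c) y, ← sub_eq_zero, ← sub_smul]
      refine htors ⟨_, ?_⟩
      rw [mem_ideal_iff_mulLeftLin, map_sub, AlgHom.commutes, Algebra.algebraMap_self, RingHom.id_apply,
        sub_self]

/-- `I^n/I^(n+1)` in the two presentations. -/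
theorem exists_grMap (n : ℕ) :
    ∃ e : PP16.grI A B n →ₗ[B] PP16.grJ (B ⊗[A] B) (I) n, Function.Bijective e ∧
      ∀ (y : B ⊗[A] B) (hy : y ∈ (I) ^ n),
        e (Submodule.Quotient.mk ⟨y, hy⟩) = Submodule.Quotient.mk ⟨y, hy⟩ := by
  let f : ↥(((I) ^ n).restrictScalars B) →ₗ[B] PP16.grJ (B ⊗[A] B) (I) n :=
    { toFun := fun y => Submodule.Quotient.mk ⟨y.1, y.2⟩
      map_add' := fun _ _ => rfl
      map_smul' := fun c y => by
        refine (Submodule.Quotient.eq _).2 ?_
        show c • (y : B ⊗[A] B) - c • (y : B ⊗[A] B) ∈ (I) ^ (n + 1)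
        rw [sub_self]
        exact zero_mem _ }
  have hker : LinearMap.ker f = (((I) ^ (n + 1)).restrictScalars B).comap (((I) ^ n).restrictScalars B).subtype :=
    Submodule.ext fun y => Submodule.Quotient.mk_eq_zero _
  refine ⟨Submodule.liftQ _ f hker.ge, ⟨?_, ?_⟩, fun y hy => rfl⟩
  · rw [← LinearMap.ker_eq_bot, Submodule.ker_liftQ, hker, Submodule.mkQ_map_self]
  · intro z
    obtain ⟨⟨y, hy⟩, rfl⟩ := Submodule.Quotient.mk_surjective _ z
    exact ⟨Submodule.Quotient.mk ⟨y, hy⟩, rfl⟩

theorem formallySmooth_quotient : Algebra.FormallySmooth B ((B ⊗[A] B) ⧸ (I)) := by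
  let e : ((B ⊗[A] B) ⧸ (I)) ≃ₐ[B] B := AlgEquiv.ofBijective
    (Ideal.Quotient.liftₐ (I) (mulLeftLin A B) fun x hx => (mem_ideal_iff_mulLeftLin x).1 hx)
    ⟨(injective_iff_map_eq_zero _).2 fun x hx => by
      obtain ⟨y, rfl⟩ := Ideal.Quotient.mk_surjective x
      exact Ideal.Quotient.eq_zero_iff_mem.2 ((mem_ideal_iff_mulLeftLin y).2 hx),
     fun b => ⟨Ideal.Quotient.mk _ (b ⊗ₜ[A] (1 : B)), (mulLeftLin A B).commutes b⟩⟩
  exact Algebra.FormallySmooth.of_equiv e.symm

theorem bijective_algebraMap_quotient : Function.Bijective (algebraMap B ((B ⊗[A] B) ⧸ (I))) := by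
  refine ⟨fun a b h => ?_, fun x => ?_⟩
  · have h' := Ideal.Quotient.eq.1 h
    rw [mem_ideal_iff_mulLeftLin, map_sub, AlgHom.commutes, AlgHom.commutes, sub_eq_zero] at h'
    exact h'
  · obtain ⟨y, rfl⟩ := Ideal.Quotient.mk_surjective x
    refine ⟨mulLeftLin A B y, Ideal.Quotient.eq.2 ?_⟩
    rw [mem_ideal_iff_mulLeftLin, map_sub, AlgHom.commutes, Algebra.algebraMap_self, RingHom.id_apply,
      sub_self]

theorem projective_iff : Module.Projective ((B ⊗[A] B) ⧸ (I)) (I).Cotangent ↔
    Module.Projective B (KaehlerDifferential A B) := by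
  let e : B ≃+* (B ⊗[A] B) ⧸ (I) := RingEquiv.ofBijective _ (bijective_algebraMap_quotient A B)
  letI := RingHomInvPair.of_ringEquiv e
  letI := RingHomInvPair.symm (e : B →+* (B ⊗[A] B) ⧸ (I)) (e.symm : ((B ⊗[A] B) ⧸ (I)) →+* B)
  have htow : ∀ (c : B) (x : (I).Cotangent),
      algebraMap B ((B ⊗[A] B) ⧸ (I)) c • x = c • x := fun c x => by
    rw [IsScalarTower.algebraMap_apply B (B ⊗[A] B) ((B ⊗[A] B) ⧸ (I)), algebraMap_smul, algebraMap_smul]
  let L : KaehlerDifferential A B ≃ₛₗ[(e : B →+* (B ⊗[A] B) ⧸ (I))] (I).Cotangent :=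
    { toFun := fun x => x
      invFun := fun x => x
      map_add' := fun _ _ => rfl
      map_smul' := fun c x => (htow c x).symm
      left_inv := fun _ => rfl
      right_inv := fun _ => rfl }
  exact ⟨fun _ => Module.Projective.of_equiv L.symm, fun _ => Module.Projective.of_equiv L⟩

theorem exists_phi_comparison (ι : Type u) [Fintype ι] [Nonempty ι] :
    ∃ (φ : SymmetricPower B ι (KaehlerDifferential A B) →ₗ[B] PP16.grI A B (Fintype.card ι))
      (ψ : SymmetricPower (B ⊗[A] B) ι (I).Cotangent →ₗ[B ⊗[A] B]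
        PP16.grJ (B ⊗[A] B) (I) (Fintype.card ι)),
      (∀ b : ι → B, φ (SymmetricPower.tprod B (fun i => KaehlerDifferential.D A B (b i))) =
        PP16.zetaProd A B b) ∧
      (∀ x : ι → ↥(I), ψ (SymmetricPower.tprod (B ⊗[A] B) (fun i => (I).toCotangent (x i))) =
        PP16.zetaJ (B ⊗[A] B) (I) x) ∧
      Function.Surjective φ ∧ (Function.Bijective φ ↔ Function.Bijective ψ) := by
  classical
  obtain ⟨π, hπ, hπb⟩ := exists_symMap A B ι
  obtain ⟨ψ, hψ, hψs⟩ := GrothLib.SymGr.exists_phi (I) (ι := ι)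
  obtain ⟨e, heb, he⟩ := exists_grMap A B (Fintype.card ι)
  let E := LinearEquiv.ofBijective e heb
  let φ := E.symm.toLinearMap ∘ₗ (ψ.restrictScalars B) ∘ₗ π
  have hc : ⇑φ = ⇑E.symm ∘ ⇑ψ ∘ ⇑π := rfl
  refine ⟨φ, ψ, fun b => ?_, hψ, ?_, ?_⟩
  · show E.symm (ψ (π (SymmetricPower.tprod B _))) = _
    rw [LinearEquiv.symm_apply_eq]
    exact ((congrArg ψ (hπ _)).trans (hψ fun i => ⟨del A (b i), del_mem (b i)⟩)).trans (he _ _).symm
  · rw [hc]; exact E.symm.surjective.comp (hψs.comp hπb.2)
  · rw [hc, Function.Bijective.of_comp_iff' E.symm.bijective, Function.Bijective.of_comp_iff _ hπb]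

/-- Any map with the prescribed values. -/
theorem phi_unique {ι : Type u} [Fintype ι]
    {φ φ' : SymmetricPower B ι (KaehlerDifferential A B) →ₗ[B] PP16.grI A B (Fintype.card ι)}
    (h : ∀ b : ι → B, φ (SymmetricPower.tprod B (fun i => KaehlerDifferential.D A B (b i))) =
      PP16.zetaProd A B b)
    (h' : ∀ b : ι → B, φ' (SymmetricPower.tprod B (fun i => KaehlerDifferential.D A B (b i))) =
      PP16.zetaProd A B b) : φ = φ' :=
  LinearMap.ext_on_range (span_tprod_D A B ι) fun b => (h b).trans (h' b).symm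

theorem symGrBijective_of_isDiffSmooth (h : PP16.IsDiffSmooth A B) :
    PP16.SymGrBijective (B ⊗[A] B) (I) := by
  intro ι _ _
  obtain ⟨φ, ψ, hφ, hψ, -, hiff⟩ := exists_phi_comparison A B ι
  obtain ⟨φ', hφ', hb⟩ := h.2 ι
  exact ⟨ψ, hψ, hiff.1 (phi_unique A B hφ' hφ ▸ hb)⟩

theorem isAdicFormallySmooth_of_isDiffSmooth (h : PP16.IsDiffSmooth A B) :
    CAlgX.IsAdicFormallySmooth B (B ⊗[A] B) (I) := by
  haveI := formallySmooth_quotient A B
  haveI := (projective_iff A B).2 h.1
  exact GrothLib.SymGr.isAdicFormallySmooth (I) (symGrBijective_of_isDiffSmooth A B h)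

/-- Degree zero. -/
theorem exists_bijective_zero (ι : Type u) [Fintype ι] [IsEmpty ι] :
    ∃ φ : SymmetricPower B ι (KaehlerDifferential A B) →ₗ[B] PP16.grI A B (Fintype.card ι),
      (∀ b : ι → B, φ (SymmetricPower.tprod B (fun i => KaehlerDifferential.D A B (b i))) =
        PP16.zetaProd A B b) ∧ Function.Bijective φ := by
  classical
  let z₀ : PP16.grI A B (Fintype.card ι) := PP16.zetaProd A B (fun i => isEmptyElim i)
  let m : MultilinearMap B (fun _ : ι => KaehlerDifferential A B) (PP16.grI A B (Fintype.card ι)) :=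
    MultilinearMap.constOfIsEmpty B (fun _ : ι => KaehlerDifferential A B) z₀
  let φ := symLift m fun _ _ => rfl
  let t := SymmetricPower.tprod B (fun i : ι => (isEmptyElim i : KaehlerDifferential A B))
  have ht : ∀ x : ι → KaehlerDifferential A B, SymmetricPower.tprod B x = t := fun x =>
    congrArg _ (funext fun i => isEmptyElim i)
  have hgen : ∀ w : SymmetricPower B ι (KaehlerDifferential A B), ∃ c : B, w = c • t := fun w => by
    have : w ∈ Submodule.span B {t} := by
      have hw : w ∈ Submodule.span B (Set.range (SymmetricPower.tprod B (ι := ι)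
          (M := KaehlerDifferential A B))) :=
        (SymmetricPower.span_tprod_eq_top B ι (KaehlerDifferential A B)) ▸ Submodule.mem_top
      refine Submodule.span_mono ?_ hw
      rintro _ ⟨x, rfl⟩
      exact ht x
    obtain ⟨c, hc⟩ := Submodule.mem_span_singleton.1 this
    exact ⟨c, hc.symm⟩
  have hφt : φ t = z₀ := symLift_tprod _ _ _
  refine ⟨φ, fun b => ?_, (injective_iff_map_eq_zero φ).2 fun w hw => ?_, fun g => ?_⟩
  · rw [ht, hφt, Subsingleton.elim b fun i => isEmptyElim i]
  · obtain ⟨c, rfl⟩ := hgen w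
    rw [map_smul, hφt] at hw
    have h1 := (Submodule.Quotient.mk_eq_zero _).1 hw
    have h2 : c • (1 : B ⊗[A] B) ∈ (I) ^ (Fintype.card ι + 1) := by
      simpa using h1
    rw [Fintype.card_eq_zero, zero_add, pow_one, mem_ideal_iff_mulLeftLin, map_smul, map_one,
      smul_eq_mul, mul_one] at h2
    rw [h2, zero_smul]
  · obtain ⟨⟨y, hy⟩, rfl⟩ := Submodule.Quotient.mk_surjective _ g
    refine ⟨mulLeftLin A B y • t, ?_⟩
    rw [map_smul, hφt]
    refine (Submodule.Quotient.eq _).2 ?_
    show mulLeftLin A B y • (∏ i : ι, _) - y ∈ (I) ^ (Fintype.card ι + 1)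
    rw [Fintype.prod_empty, Fintype.card_eq_zero, zero_add, pow_one, mem_ideal_iff_mulLeftLin, map_sub,
      map_smul, map_one, smul_eq_mul, mul_one, sub_self]

theorem isDiffSmooth_of_symGr (hp : Module.Projective B (KaehlerDifferential A B))
    (h : PP16.SymGrBijective (B ⊗[A] B) (I)) : PP16.IsDiffSmooth A B := by
  refine ⟨hp, fun ι _ => ?_⟩
  cases isEmpty_or_nonempty ι with
  | inl _ => exact exists_bijective_zero A B ι
  | inr _ =>
    obtain ⟨φ, ψ, hφ, hψ, -, hiff⟩ := exists_phi_comparison A B ι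
    obtain ⟨ψ', hψ', hb⟩ := h ι
    exact ⟨φ, hφ, hiff.2 (GrothLib.SymGr.phi_unique (I) hψ' hψ ▸ hb)⟩

theorem isDiffSmooth_iff :
    PP16.IsDiffSmooth A B ↔ CAlgX.IsAdicFormallySmooth B (B ⊗[A] B) (I) := by
  refine ⟨isAdicFormallySmooth_of_isDiffSmooth A B, fun h => ?_⟩
  haveI := formallySmooth_quotient A B
  exact isDiffSmooth_of_symGr A B ((projective_iff A B).1 (GrothLib.SymGr.projective_cotangent (I) h))
    (GrothLib.SymGr.symGrBijective (I) h)

end GrothLib.DiffSmoothAdic
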