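import Groth.Prelude.Def_DiffOp
import Groth.Agent.Lib.DiffOp.Basic
import Mathlib

/-!
# Differential operators and formally étale algebras

For `S → S'` formally unramified a differential operator on `S' ⊗[S] M` is determined by its
restriction to `M`; for `S → S'` formally étale every operator on `M` extends.
-/

universe u

noncomputable section

namespace GrothLib.PPEtale

open scoped TensorProduct
open Diff16

variable {R S S' : Type u} [CommRing R] [CommRing S] [CommRing S'] [Algebra R S] [Algebra R S']
  [Algebra S S'] [IsScalarTower R S S']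

section unique

variable {X Y : Type u} [AddCommGroup X] [Module S' X] [Module R X] [IsScalarTower R S' X]
  [AddCommGroup Y] [Module S' Y] [Module R Y] [IsScalarTower R S' Y]

/-- An operator commuting with `S` is `S'`-linear. -/
theorem commutator_eq_zero [Algebra.FormallyUnramified S S'] (k : ℕ) (E : X →ₗ[R] Y)
    (hE : IsDiffOpLE R S' X Y k E) (hS : ∀ s : S, commutator R S' X Y E (algebraMap S S' s) = 0)
    (b : S') : commutator R S' X Y E b = 0 := by
  induction k generalizing E b with
  | zero => exact GrothLib.DiffOp.isDiffOpLE_zero_iff_commutator.1 hE b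
  | succ k ih =>
    have hlin : ∀ (b c : S') (x : X),
        commutator R S' X Y E b (c • x) = c • commutator R S' X Y E b x := by
      intro b c x
      have h0 : commutator R S' X Y (commutator R S' X Y E b) c = 0 := by
        refine ih _ (hE b) (fun s => ?_) c
        rw [GrothLib.DiffOp.commutator_comm, hS s, GrothLib.DiffOp.commutator_zero]
      have h1 := LinearMap.congr_fun h0 x
      rw [GrothLib.DiffOp.commutator_apply, LinearMap.zero_apply, sub_eq_zero] at h1
      exact h1
    have : Subsingleton (Ω[S'⁄S]) := inferInstance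
    let δ₀ : S' → (X →ₗ[S'] Y) := fun b =>
      { toFun := commutator R S' X Y E b
        map_add' := map_add _
        map_smul' := hlin b }
    letI : Module S (X →ₗ[S'] Y) := Module.compHom _ (algebraMap S S')
    haveI : IsScalarTower S S' (X →ₗ[S'] Y) := ⟨fun s c f => by
      rw [Algebra.smul_def, mul_smul]; rfl⟩
    have hmul : ∀ b c, δ₀ (b * c) = b • δ₀ c + c • δ₀ b := fun b c => by
      refine LinearMap.ext fun x => ?_
      show E ((b * c) • x) - (b * c) • E x =
        b • (E (c • x) - c • E x) + c • (E (b • x) - b • E x)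
      have := hlin b c x
      simp only [GrothLib.DiffOp.commutator_apply] at this
      rw [← this, mul_smul, mul_smul, smul_sub]
      abel
    have hz : ∀ s, δ₀ (algebraMap S S' s) = 0 := fun s =>
      LinearMap.ext fun x => LinearMap.congr_fun (hS s) x
    let δ : Derivation S S' (X →ₗ[S'] Y) :=
      Derivation.mk'
        { toFun := δ₀
          map_add' := fun b c => LinearMap.ext fun x => by
            show E ((b + c) • x) - (b + c) • E x = (E (b • x) - b • E x) + (E (c • x) - c • E x)
            rw [add_smul, add_smul, map_add]; abel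
          map_smul' := fun s c => by
            rw [Algebra.smul_def, hmul, hz, smul_zero, add_zero]
            rfl } hmul
    have hδ : δ.liftKaehlerDifferential = 0 := LinearMap.ext fun x => by
      rw [Subsingleton.elim x 0, map_zero, map_zero]
    refine LinearMap.ext fun x => ?_
    have h1 := LinearMap.congr_fun hδ (KaehlerDifferential.D S S' b)
    rw [Derivation.liftKaehlerDifferential_comp_D] at h1
    exact LinearMap.congr_fun h1 x

end unique

variable {M : Type u} [AddCommGroup M] [Module S M] [Module R M] [IsScalarTower R S M]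

/-- An operator on `S' ⊗[S] M` vanishing on `M` vanishes. -/
theorem eq_zero_of_comp_mk [Algebra.FormallyUnramified S S'] {Y : Type u} [AddCommGroup Y]
    [Module S' Y] [Module R Y] [IsScalarTower R S' Y] (k : ℕ) (D : S' ⊗[S] M →ₗ[R] Y)
    (hD : IsDiffOpLE R S' (S' ⊗[S] M) Y k D) (h : ∀ m : M, D (1 ⊗ₜ m) = 0) : D = 0 := by
  induction k generalizing D with
  | zero =>
    refine LinearMap.ext fun x => ?_
    induction x using TensorProduct.induction_on with
    | zero => simp
    | add a b ha hb => simp [ha, hb]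
    | tmul b m =>
      rw [show b ⊗ₜ[S] m = b • ((1 : S') ⊗ₜ[S] m) by simp [TensorProduct.smul_tmul'], hD, h, smul_zero]
      rfl
  | succ k ih =>
    have hS : ∀ s : S, commutator R S' (S' ⊗[S] M) Y D (algebraMap S S' s) = 0 := by
      intro s
      refine ih _ (hD _) fun m => ?_
      rw [GrothLib.DiffOp.commutator_apply, algebraMap_smul, ← TensorProduct.tmul_smul, h, h,
        smul_zero, sub_zero]
    have hlin := commutator_eq_zero (k + 1) D hD hS
    refine LinearMap.ext fun x => ?_
    induction x using TensorProduct.induction_on with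
    | zero => simp
    | add a b ha hb => simp [ha, hb]
    | tmul b m =>
      have h1 := LinearMap.congr_fun (hlin b) ((1 : S') ⊗ₜ[S] m)
      rw [GrothLib.DiffOp.commutator_apply, h, smul_zero, sub_zero, TensorProduct.smul_tmul',
        smul_eq_mul, mul_one] at h1
      exact h1

section ideal

variable (R S S')

/-- The preimage of the diagonal ideal in `S' ⊗[R] S`. -/
abbrev bigI : Ideal (S' ⊗[R] S) :=
  (KaehlerDifferential.ideal R S').comap
    (Algebra.TensorProduct.map (AlgHom.id S' S') (IsScalarTower.toAlgHom R S S')).toRingHom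

variable {R S S'}

theorem mem_bigI (x : S' ⊗[R] S) : x ∈ bigI R S S' ↔
    Algebra.TensorProduct.lmul' R
      (Algebra.TensorProduct.map (AlgHom.id S' S') (IsScalarTower.toAlgHom R S S') x) = 0 := Iff.rfl

theorem delta_mem_bigI (s : S) :
    (1 : S') ⊗ₜ[R] s - algebraMap S S' s ⊗ₜ[R] (1 : S) ∈ bigI R S S' := by
  rw [mem_bigI]; simp

theorem bigI_le_span : bigI R S S' ≤ Ideal.span (Set.range fun s : S =>
    (1 : S') ⊗ₜ[R] s - algebraMap S S' s ⊗ₜ[R] (1 : S)) := by
  intro x hx
  have key : ∀ y : S' ⊗[R] S, y - (Algebra.TensorProduct.lmul' R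
      (Algebra.TensorProduct.map (AlgHom.id S' S') (IsScalarTower.toAlgHom R S S') y)) ⊗ₜ[R] (1 : S) ∈
      Ideal.span (Set.range fun s : S =>
        (1 : S') ⊗ₜ[R] s - algebraMap S S' s ⊗ₜ[R] (1 : S)) := by
    intro y
    induction y using TensorProduct.induction_on with
    | zero => simp
    | add a b ha hb =>
      simp only [map_add, TensorProduct.add_tmul, add_sub_add_comm]
      exact add_mem ha hb
    | tmul b s =>
      have : b ⊗ₜ[R] s - (b * algebraMap S S' s) ⊗ₜ[R] (1 : S) =
          (b ⊗ₜ[R] (1 : S)) * ((1 : S') ⊗ₜ[R] s - algebraMap S S' s ⊗ₜ[R] (1 : S)) := by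
        simp [mul_sub]
      simp only [Algebra.TensorProduct.map_tmul, AlgHom.id_apply, Algebra.TensorProduct.lmul'_apply_tmul,
        IsScalarTower.toAlgHom_apply]
      rw [this]
      exact Ideal.mul_mem_left _ _ (Ideal.subset_span ⟨s, rfl⟩)
  have := key x
  rwa [(mem_bigI x).1 hx, TensorProduct.zero_tmul, sub_zero] at this

/-- A section `S' → (S' ⊗[R] S)/I^(k+1)` of the augmentation extending the right factor. -/
theorem exists_etale_section [Algebra.FormallySmooth S S'] (k : ℕ) :
    ∃ g : S' →ₐ[R] (S' ⊗[R] S) ⧸ bigI R S S' ^ (k + 1),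
      (∀ s, g (algebraMap S S' s) = Ideal.Quotient.mk _ ((1 : S') ⊗ₜ[R] s)) ∧
      ∀ b, g b - Ideal.Quotient.mk _ (b ⊗ₜ[R] (1 : S)) ∈
        (bigI R S S').map (Ideal.Quotient.mk (bigI R S S' ^ (k + 1))) := by
  let Q := (S' ⊗[R] S) ⧸ bigI R S S' ^ (k + 1)
  let mk := Ideal.Quotient.mk (bigI R S S' ^ (k + 1))
  let algS : Algebra S Q :=
    (mk.comp (Algebra.TensorProduct.includeRight (R := R) (A := S') (B := S)).toRingHom).toAlgebra
  letI := algS
  have hinc : ∀ r : R, mk (algebraMap R (S' ⊗[R] S) r) = mk ((1 : S') ⊗ₜ[R] algebraMap R S r) := fun r =>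
    congrArg mk ((Algebra.TensorProduct.includeRight (R := R) (A := S') (B := S)).commutes r).symm
  let N : Ideal Q := (bigI R S S').map mk
  have hN : IsNilpotent N := ⟨k + 1, by
    refine (Ideal.map_pow mk _ _).symm.trans ?_
    exact Ideal.map_quotient_self _⟩
  let t : S' →ₐ[S] Q ⧸ N :=
    AlgHom.mk ((Ideal.Quotient.mk N).comp (mk.comp Algebra.TensorProduct.includeLeftRingHom))
      (fun s => by
        show Ideal.Quotient.mk N (mk (algebraMap S S' s ⊗ₜ[R] (1 : S))) =
          Ideal.Quotient.mk N (mk ((1 : S') ⊗ₜ[R] s))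
        rw [eq_comm, Ideal.Quotient.eq, ← map_sub]
        exact Ideal.mem_map_of_mem mk (delta_mem_bigI s))
  let g := Algebra.FormallySmooth.lift N hN t
  refine ⟨AlgHom.mk g.toRingHom (fun r => ?_), fun s => g.commutes s, fun b => ?_⟩
  · show g (algebraMap R S' r) = mk (algebraMap R (S' ⊗[R] S) r)
    rw [IsScalarTower.algebraMap_apply R S S', g.commutes, hinc]
    rfl
  exact Ideal.Quotient.eq.1 (Algebra.FormallySmooth.mk_lift N hN t b)

end ideal

section extend

variable {Y : Type u} [AddCommGroup Y] [Module S' Y] [Module R Y] [IsScalarTower R S' Y]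
  [Module S Y] [IsScalarTower R S Y] [IsScalarTower S S' Y]

/-- `b ⊗ c ↦ b • D (c • m)`. -/
def lin (D : M →ₗ[R] Y) (m : M) : S' ⊗[R] S →ₗ[R] Y :=
  TensorProduct.lift
    { toFun := fun b => b • (D ∘ₗ ((LinearMap.toSpanSingleton S M m).restrictScalars R))
      map_add' := fun b c => add_smul b c _
      map_smul' := fun a b => smul_assoc a b _ }

theorem lin_tmul (D : M →ₗ[R] Y) (m : M) (b : S') (c : S) :
    lin D m (b ⊗ₜ[R] c) = b • D (c • m) := rfl

theorem lin_mul_left (D : M →ₗ[R] Y) (m : M) (b : S') (x : S' ⊗[R] S) :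
    lin D m ((b ⊗ₜ[R] (1 : S)) * x) = b • lin D m x := by
  induction x using TensorProduct.induction_on with
  | zero => simp
  | add a c ha hc => simp [mul_add, ha, hc]
  | tmul c s => simp [lin_tmul, mul_smul]

theorem lin_mul_right (D : M →ₗ[R] Y) (m : M) (s : S) (x : S' ⊗[R] S) :
    lin D m (x * ((1 : S') ⊗ₜ[R] s)) = lin D (s • m) x := by
  induction x using TensorProduct.induction_on with
  | zero => simp
  | add a c ha hc => simp [add_mul, ha, hc]
  | tmul c t => simp [lin_tmul, mul_smul]

theorem lin_add (D : M →ₗ[R] Y) (m m' : M) (x : S' ⊗[R] S) :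
    lin D (m + m') x = lin D m x + lin D m' x := by
  induction x using TensorProduct.induction_on with
  | zero => simp
  | add a c ha hc => rw [map_add, map_add, map_add, ha, hc]; abel
  | tmul c s => simp [lin_tmul, smul_add]

theorem lin_mul_delta (D : M →ₗ[R] Y) (m : M) (s : S) (x : S' ⊗[R] S) :
    lin D m (x * ((1 : S') ⊗ₜ[R] s - algebraMap S S' s ⊗ₜ[R] (1 : S))) =
      lin (commutator R S M Y D s) m x := by
  induction x using TensorProduct.induction_on with
  | zero => simp
  | add a c ha hc => simp only [add_mul, map_add, ha, hc]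
  | tmul b t =>
    simp only [mul_sub, map_sub, Algebra.TensorProduct.tmul_mul_tmul, mul_one, lin_tmul,
      GrothLib.DiffOp.commutator_apply, smul_sub]
    rw [mul_smul b, algebraMap_smul, smul_smul s t m, mul_comm s t]

theorem lin_eq_zero (k : ℕ) (D : M →ₗ[R] Y) (hD : IsDiffOpLE R S M Y k D) (m : M)
    {x : S' ⊗[R] S} (hx : x ∈ bigI R S S' ^ (k + 1)) : lin D m x = 0 := by
  induction k generalizing D x with
  | zero =>
    rw [zero_add, pow_one] at hx
    suffices ∀ y, lin D m (y * x) = 0 by simpa using this 1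
    replace hx := bigI_le_span hx
    induction hx using Submodule.span_induction with
    | mem z hz =>
      obtain ⟨s, rfl⟩ := hz
      intro y
      rw [lin_mul_delta, GrothLib.DiffOp.isDiffOpLE_zero_iff_commutator.1 hD s]
      induction y using TensorProduct.induction_on with
      | zero => simp
      | add a c ha hc => simp [ha, hc]
      | tmul b t => simp [lin_tmul]
    | zero => simp
    | add z w _ _ hz hw => intro y; rw [mul_add, map_add, hz, hw, add_zero]
    | smul a z _ hz => intro y; rw [smul_eq_mul, ← mul_assoc]; exact hz _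
  | succ k ih =>
    rw [pow_succ] at hx
    refine Submodule.mul_induction_on hx ?_ (fun a b ha hb => by rw [map_add, ha, hb, add_zero])
    intro y hy z hz
    replace hz := bigI_le_span hz
    induction hz using Submodule.span_induction generalizing y with
    | mem z hz =>
      obtain ⟨s, rfl⟩ := hz
      rw [lin_mul_delta]
      exact ih _ (hD s) hy
    | zero => simp
    | add z w _ _ hz hw => rw [mul_add, map_add, hz y hy, hw y hy, add_zero]
    | smul a z _ hz =>
      rw [smul_eq_mul, ← mul_assoc]
      exact hz _ (Ideal.mul_mem_right _ _ hy)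

theorem exists_extension [Algebra.FormallySmooth S S'] (k : ℕ) (D : M →ₗ[R] Y)
    (hD : IsDiffOpLE R S M Y k D) :
    ∃ D' : S' ⊗[S] M →ₗ[R] Y,
      IsDiffOpLE R S' (S' ⊗[S] M) Y k D' ∧ ∀ m, D' (1 ⊗ₜ m) = D m := by
  obtain ⟨g, hgS, hgN⟩ := exists_etale_section (R := R) (S := S) (S' := S') k
  let I' := (bigI R S S' ^ (k + 1)).restrictScalars R
  let e := Submodule.Quotient.restrictScalarsEquiv R (bigI R S S' ^ (k + 1))
  let L : M → ((S' ⊗[R] S) ⧸ bigI R S S' ^ (k + 1)) → Y := fun m x =>
    I'.liftQ (lin D m) (fun z hz => lin_eq_zero k D hD m hz) (e.symm x)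
  have hL : ∀ m z, L m (Ideal.Quotient.mk _ z) = lin D m z := fun m z => rfl
  have hLadd : ∀ m x y, L m (x + y) = L m x + L m y := fun m x y => by
    obtain ⟨x, rfl⟩ := Ideal.Quotient.mk_surjective x
    obtain ⟨y, rfl⟩ := Ideal.Quotient.mk_surjective y
    rw [← map_add, hL, hL, hL, map_add]
  have hLadd' : ∀ m m' x, L (m + m') x = L m x + L m' x := fun m m' x => by
    obtain ⟨x, rfl⟩ := Ideal.Quotient.mk_surjective x
    rw [hL, hL, hL, lin_add]
  have hLl : ∀ m b x, L m (Ideal.Quotient.mk _ (b ⊗ₜ[R] (1 : S)) * x) = b • L m x := fun m b x => by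
    obtain ⟨x, rfl⟩ := Ideal.Quotient.mk_surjective x
    rw [← map_mul, hL, hL, lin_mul_left]
  have hLr : ∀ m s x, L m (x * Ideal.Quotient.mk _ ((1 : S') ⊗ₜ[R] s)) = L (s • m) x := fun m s x => by
    obtain ⟨x, rfl⟩ := Ideal.Quotient.mk_surjective x
    rw [← map_mul, hL, hL, lin_mul_right]
  -- the operator attached to `x`, `b ⊗ m ↦ L m (x * g b)`
  let G₀ : ((S' ⊗[R] S) ⧸ bigI R S S' ^ (k + 1)) → S' ⊗[S] M →+ Y := fun x =>
    TensorProduct.liftAddHom
      (AddMonoidHom.mk' (fun b => AddMonoidHom.mk' (fun m => L m (x * g b))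
          (fun m m' => hLadd' m m' _))
        (fun b c => AddMonoidHom.ext fun m => by
          show L m (x * g (b + c)) = L m (x * g b) + L m (x * g c)
          rw [map_add, mul_add, hLadd]))
      (fun s b m => by
        show L m (x * g (s • b)) = L (s • m) (x * g b)
        rw [← hLr, Algebra.smul_def, map_mul, hgS, mul_assoc, mul_comm (g b)])
  have hG₀ : ∀ x b m, G₀ x (b ⊗ₜ[S] m) = L m (x * g b) := fun x b m => rfl
  have hG₀l : ∀ (a : R) x t, G₀ x (a • t) = a • G₀ x t := fun a x t => by
    induction t using TensorProduct.induction_on with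
    | zero => simp
    | add p q hp hq => simp [smul_add, hp, hq]
    | tmul b m =>
      rw [TensorProduct.smul_tmul', hG₀, hG₀, map_smul, Algebra.smul_def a (g b),
        ← IsScalarTower.algebraMap_smul S' a (L m (x * g b)), ← hLl, ← mul_assoc, mul_comm x,
        mul_assoc]
      rfl
  let G : ((S' ⊗[R] S) ⧸ bigI R S S' ^ (k + 1)) → S' ⊗[S] M →ₗ[R] Y := fun x =>
    { G₀ x with map_smul' := fun a t => hG₀l a x t }
  have hG : ∀ x b m, G x (b ⊗ₜ[S] m) = L m (x * g b) := fun x b m => rfl
  have hcomm : ∀ x c, commutator R S' (S' ⊗[S] M) Y (G x) c =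
      G (x * (g c - Ideal.Quotient.mk _ (c ⊗ₜ[R] (1 : S)))) := fun x c => by
    refine LinearMap.ext fun t => ?_
    induction t using TensorProduct.induction_on with
    | zero => simp
    | add p q hp hq => simp [hp, hq]
    | tmul b m =>
      rw [GrothLib.DiffOp.commutator_apply, TensorProduct.smul_tmul', smul_eq_mul, hG, hG, hG,
        map_mul, ← hLl, eq_comm, eq_sub_iff_add_eq, ← hLadd]
      exact congrArg (L m) (by ring)
  have hGzero : G 0 = 0 := LinearMap.ext fun t => by
    induction t using TensorProduct.induction_on with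
    | zero => simp
    | add p q hp hq => simp [hp, hq]
    | tmul b m =>
      rw [hG, zero_mul, ← map_zero (Ideal.Quotient.mk (bigI R S S' ^ (k + 1))), hL, map_zero]
      rfl
  have hord : ∀ (j i : ℕ), k ≤ i + j →
      ∀ x ∈ (bigI R S S').map (Ideal.Quotient.mk (bigI R S S' ^ (k + 1))) ^ i,
        IsDiffOpLE R S' (S' ⊗[S] M) Y j (G x) := by
    intro j
    induction j with
    | zero =>
      intro i hi x hx
      refine GrothLib.DiffOp.isDiffOpLE_zero_iff_commutator.2 fun c => ?_
      rw [hcomm]
      have h1 := (pow_succ ((bigI R S S').map (Ideal.Quotient.mk (bigI R S S' ^ (k + 1)))) i).ge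
        (Ideal.mul_mem_mul hx (hgN c))
      have h2 : (bigI R S S').map (Ideal.Quotient.mk (bigI R S S' ^ (k + 1))) ^ (i + 1) ≤ ⊥ := by
        refine (Ideal.pow_le_pow_right (by omega : k + 1 ≤ i + 1)).trans ?_
        rw [← Ideal.map_pow, Ideal.map_quotient_self]
      rw [(Submodule.mem_bot _).1 (h2 h1), hGzero]
    | succ j ih =>
      intro i hi x hx c
      rw [hcomm]
      exact ih (i + 1) (by omega) _
        ((pow_succ ((bigI R S S').map (Ideal.Quotient.mk (bigI R S S' ^ (k + 1)))) i).ge
          (Ideal.mul_mem_mul hx (hgN c)))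
  refine ⟨G 1, hord k 0 (by omega) 1 (by simp), fun m => ?_⟩
  rw [hG, map_one, mul_one, ← map_one (Ideal.Quotient.mk (bigI R S S' ^ (k + 1))), hL,
    Algebra.TensorProduct.one_def, lin_tmul, one_smul, one_smul]

end extend

end GrothLib.PPEtale
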