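import Groth.Agent.Lib.PrincipalParts.Basic
import Mathlib.RingTheory.MvPolynomial.Homogeneous
import Mathlib.LinearAlgebra.Multilinear.Basis

/-!
# The graded pieces of the diagonal ideal against symmetric powers

For an algebra `B` with `Ω` a direct summand of the free module `σ →₀ B` and lifts `u j ∈ I` of the
images of the basis, the substitution `X j ↦ u j` computes `Sym^k Ω → I^k/I^(k+1)`; the latter is
always surjective, and it is injective as soon as the substitution detects the homogeneous
polynomials coming from `Ω`.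
-/

universe u v w

noncomputable section

namespace GrothLib.PrincipalParts

open scoped TensorProduct
open MvPolynomial

section symLift

variable {R ι : Type u} [CommSemiring R] {M : Type v} [AddCommMonoid M] [Module R M]
variable {N : Type w} [AddCommMonoid N] [Module R N]

/-- A symmetric multilinear map descends to the symmetric power. -/
def symLift (f : MultilinearMap R (fun _ : ι => M) N)
    (hf : ∀ (e : Equiv.Perm ι) (x : ι → M), f (fun i => x (e i)) = f x) :
    SymmetricPower R ι M →ₗ[R] N :=
  let g : SymmetricPower R ι M →+ N := AddCon.lift _ (PiTensorProduct.lift f).toAddMonoidHom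
    (AddCon.addConGen_le.2 fun x y h => by
      cases h with
      | perm e x =>
        rw [AddCon.ker_apply]
        simp only [LinearMap.toAddMonoidHom_coe, PiTensorProduct.lift.tprod, hf])
  { g with
    map_smul' := fun r x => AddCon.induction_on x fun y => (PiTensorProduct.lift f).map_smul r y }

theorem symLift_tprod (f : MultilinearMap R (fun _ : ι => M) N)
    (hf : ∀ (e : Equiv.Perm ι) (x : ι → M), f (fun i => x (e i)) = f x) (x : ι → M) :
    symLift f hf (SymmetricPower.tprod R x) = f x :=
  PiTensorProduct.lift.tprod x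

/-- Linear maps out of the symmetric power are determined by the values on `tprod`s. -/
theorem sym_ext {f g : SymmetricPower R ι M →ₗ[R] N}
    (h : ∀ x, f (SymmetricPower.tprod R x) = g (SymmetricPower.tprod R x)) : f = g :=
  LinearMap.ext_on_range (SymmetricPower.span_tprod_eq_top R ι M) h

end symLift

section exponents

variable {ι : Type u} [Fintype ι] {σ : Type v}

theorem exists_enum (p : σ →₀ ℕ) (hp : p.degree = Fintype.card ι) :
    ∃ e : ι → σ, ∑ i, Finsupp.single (e i) 1 = p := by
  classical
  let T := Σ a : p.support, Fin (p a)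
  have hcard : Fintype.card ι = Fintype.card T := by
    simp only [T, Fintype.card_sigma, Fintype.card_fin, ← hp, Finsupp.degree_apply]
    exact (Finset.sum_coe_sort p.support p).symm
  let f := Fintype.equivOfCardEq hcard
  refine ⟨fun i => (f i).1.1, ?_⟩
  rw [Equiv.sum_comp f (fun t : T => Finsupp.single (t.1 : σ) 1), Fintype.sum_sigma]
  simp only [Finset.sum_const, Finset.card_univ, Fintype.card_fin, Finsupp.smul_single,
    smul_eq_mul, mul_one]
  rw [Finset.sum_coe_sort p.support fun a => Finsupp.single a (p a)]
  exact p.sum_single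

theorem exists_perm_of_sum_single_eq {e e' : ι → σ}
    (h : ∑ i, Finsupp.single (e i) 1 = ∑ i, Finsupp.single (e' i) 1) :
    ∃ π : Equiv.Perm ι, ∀ i, e' (π i) = e i := by
  classical
  have hc : ∀ a, Fintype.card {i // e i = a} = Fintype.card {i // e' i = a} := fun a => by
    have h' := DFunLike.congr_fun h a
    simp only [Finsupp.finsetSum_apply, Finsupp.single_apply] at h'
    simpa [Fintype.card_subtype, Finset.sum_boole] using h'
  refine ⟨Equiv.ofFiberEquiv fun a => Fintype.equivOfCardEq (hc a), fun i => ?_⟩
  exact Equiv.ofFiberEquiv_map _ i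

end exponents

section gr

variable {A B : Type u} [CommRing A] [CommRing B] [Algebra A B]

theorem prod_sub_prod_mem {R : Type u} [CommRing R] (I : Ideal R) {ι : Type*} (s : Finset ι)
    (x y : ι → R) (hx : ∀ i ∈ s, x i ∈ I) (hy : ∀ i ∈ s, y i ∈ I)
    (hxy : ∀ i ∈ s, x i - y i ∈ I ^ 2) :
    ∏ i ∈ s, x i - ∏ i ∈ s, y i ∈ I ^ (s.card + 1) := by
  classical
  induction s using Finset.induction_on with
  | empty => simp
  | insert a s ha ih =>
    simp only [Finset.mem_insert, forall_eq_or_imp] at hx hy hxy
    have hyp : ∏ i ∈ s, y i ∈ I ^ s.card := by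
      have := Ideal.prod_mem_prod (ι := ι) (s := s) (I := fun _ => I) (x := y) hy.2
      simpa using this
    rw [Finset.prod_insert ha, Finset.prod_insert ha, Finset.card_insert_of_notMem ha,
      show x a * ∏ i ∈ s, x i - y a * ∏ i ∈ s, y i =
        x a * (∏ i ∈ s, x i - ∏ i ∈ s, y i) + (x a - y a) * ∏ i ∈ s, y i by ring]
    refine add_mem ?_ ?_
    · rw [pow_succ']
      exact Ideal.mul_mem_mul hx.1 (ih hx.2 hy.2 hxy.2)
    · rw [show s.card + 1 + 1 = 2 + s.card by omega, pow_add]
      exact Ideal.mul_mem_mul hxy.1 hyp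

/-- `1 ⊗ b - b ⊗ 1`. -/
abbrev del (A : Type u) {B : Type u} [CommRing A] [CommRing B] [Algebra A B] (b : B) :
    B ⊗[A] B := (1 : B) ⊗ₜ[A] b - b ⊗ₜ[A] (1 : B)

theorem del_mem (b : B) : del A b ∈ KaehlerDifferential.ideal A B :=
  KaehlerDifferential.one_smul_sub_smul_one_mem_ideal A b

/-- Modulo `I^(k+1)`, `I^k` is spanned over `B` by the `k`-fold products of the `del b`. -/
theorem exists_mem_span_prod_del {ι : Type*} (s : Finset ι) {x : B ⊗[A] B}
    (hx : x ∈ KaehlerDifferential.ideal A B ^ s.card) :
    ∃ y ∈ Submodule.span B (Set.range fun b : ι → B => ∏ i ∈ s, del A (b i)),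
      x - y ∈ KaehlerDifferential.ideal A B ^ (s.card + 1) := by
  classical
  induction s using Finset.induction_on generalizing x with
  | empty =>
    let m := Algebra.TensorProduct.lmul' A (S := B) x
    refine ⟨m • 1, Submodule.smul_mem _ _ (Submodule.subset_span ⟨fun _ => 0, by simp⟩), ?_⟩
    simp only [Finset.card_empty, zero_add, pow_one]
    show Algebra.TensorProduct.lmul' A (x - m • 1) = 0
    simp [m, Algebra.TensorProduct.one_def, TensorProduct.smul_tmul']
  | insert a s ha ih =>
    rw [Finset.card_insert_of_notMem ha] at hx ⊢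
    rw [pow_succ] at hx
    refine Submodule.mul_induction_on hx (fun z hz t ht => ?_) fun z w hz hw => ?_
    · obtain ⟨y, hy, hzy⟩ := ih hz
      refine ⟨y * t, ?_, ?_⟩
      · have ht' : t ∈ Submodule.span B (Set.range fun b : B => del A b) := by
          rw [KaehlerDifferential.submodule_span_range_eq_ideal]; exact ht
        have h1 := Submodule.mul_mem_mul hy ht'
        rw [Submodule.span_mul_span] at h1
        refine Submodule.span_le.2 ?_ h1
        rintro _ ⟨_, ⟨b, rfl⟩, _, ⟨c, rfl⟩, rfl⟩
        refine Submodule.subset_span ⟨Function.update b a c, ?_⟩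
        dsimp only
        rw [Finset.prod_insert ha, Function.update_self, mul_comm]
        congr 1
        exact Finset.prod_congr rfl fun i hi => by
          rw [Function.update_of_ne (ne_of_mem_of_not_mem hi ha)]
      · rw [show z * t - y * t = (z - y) * t by ring,
          pow_succ (KaehlerDifferential.ideal A B) (s.card + 1)]
        exact Ideal.mul_mem_mul hzy ht
    · obtain ⟨y, hy, h1⟩ := hz
      obtain ⟨y', hy', h2⟩ := hw
      exact ⟨y + y', add_mem hy hy', by rw [add_sub_add_comm]; exact add_mem h1 h2⟩

variable {σ : Type w} (u : σ → B ⊗[A] B) (hu : ∀ j, u j ∈ KaehlerDifferential.ideal A B)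

/-- The substitution `X j ↦ u j`. -/
def toDiag : MvPolynomial σ B →ₐ[B] B ⊗[A] B := aeval u

include hu in
theorem toDiag_mem_of_isHomogeneous {h : MvPolynomial σ B} {k : ℕ} (hh : h.IsHomogeneous k) :
    toDiag u h ∈ KaehlerDifferential.ideal A B ^ k := by
  rw [toDiag, aeval_def, eval₂_eq]
  refine Ideal.sum_mem _ fun d hd => Ideal.mul_mem_left _ _ ?_
  have hdeg : d.degree = k := by
    have := hh (mem_support_iff.1 hd)
    rw [Finsupp.degree_eq_weight_one]
    exact this
  rw [← hdeg, Finsupp.degree_apply]
  have := Ideal.prod_mem_prod (ι := σ) (s := d.support)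
    (I := fun j => KaehlerDifferential.ideal A B ^ d j) (x := fun j => u j ^ d j)
    (fun j _ => Ideal.pow_mem_pow (hu j) _)
  rwa [Finset.prod_pow_eq_pow_sum] at this

/-- `(σ →₀ B) → MvPolynomial σ B`, the linear forms. -/
def linForm : (σ →₀ B) →ₗ[B] MvPolynomial σ B := Finsupp.linearCombination B X

/-- The polynomial `∏ i, L (v i)` as a function of a tuple in `σ →₀ B`. -/
def prodForm (ι : Type u) [Fintype ι] :
    MultilinearMap B (fun _ : ι => σ →₀ B) (MvPolynomial σ B) :=
  (MultilinearMap.mkPiAlgebra B ι (MvPolynomial σ B)).compLinearMap fun _ => linForm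

theorem prodForm_apply {ι : Type u} [Fintype ι] (v : ι → σ →₀ B) :
    prodForm ι v = ∏ i, linForm (v i) := rfl

theorem prodForm_isHomogeneous {ι : Type u} [Fintype ι] (v : ι → σ →₀ B) :
    (prodForm ι v).IsHomogeneous (Fintype.card ι) := by
  rw [prodForm_apply, Fintype.card_eq_sum_ones]
  refine MvPolynomial.IsHomogeneous.prod _ _ _ fun i _ => ?_
  rw [linForm, Finsupp.linearCombination_apply, Finsupp.sum]
  exact MvPolynomial.IsHomogeneous.sum _ _ _ fun j _ => by
    rw [smul_eq_C_mul]
    simpa using (isHomogeneous_C σ _).mul (isHomogeneous_X B j)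

theorem prodForm_single {ι : Type u} [Fintype ι] (e : ι → σ) :
    prodForm (B := B) ι (fun i => Finsupp.single (e i) 1) =
      monomial (∑ i, Finsupp.single (e i) 1) 1 := by
  rw [prodForm_apply, monomial_sum_one]
  simp [linForm, X]

variable (r : (σ →₀ B) →ₗ[B] KaehlerDifferential A B)

/-- The left inverse of `Sym^k → polynomials`: a monomial of degree `k` goes to the symmetric
product of the corresponding `r (single j 1)`. -/
def ofPoly (ι : Type u) [Fintype ι] :
    MvPolynomial σ B →ₗ[B] SymmetricPower B ι (KaehlerDifferential A B) :=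
  haveI := Classical.dec
  (basisMonomials σ B).constr B fun p =>
    if h : p.degree = Fintype.card ι then
      SymmetricPower.tprod B fun i => r (Finsupp.single ((exists_enum p h).choose i) 1)
    else 0

theorem ofPoly_prodForm {ι : Type u} [Fintype ι] (v : ι → σ →₀ B) :
    ofPoly r ι (prodForm ι v) = SymmetricPower.tprod B fun i => r (v i) := by
  suffices h : (ofPoly r ι).compMultilinearMap (prodForm ι) =
      (SymmetricPower.tprod B).compLinearMap fun _ => r from DFunLike.congr_fun h v
  refine Module.Basis.ext_multilinear (fun _ => Finsupp.basisSingleOne) fun e => ?_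
  simp only [LinearMap.compMultilinearMap_apply, MultilinearMap.compLinearMap_apply,
    Finsupp.coe_basisSingleOne, prodForm_single]
  have hb : monomial (∑ i, Finsupp.single (e i) 1) (1 : B) =
      basisMonomials σ B (∑ i, Finsupp.single (e i) 1) := by simp
  rw [hb, ofPoly, Module.Basis.constr_basis, dif_pos (by simp)]
  obtain ⟨π, hπ⟩ := exists_perm_of_sum_single_eq (ι := ι)
    (exists_enum (∑ i, Finsupp.single (e i) 1) (ι := ι) (by simp)).choose_spec
  rw [← SymmetricPower.tprod_equiv π fun i => r (Finsupp.single (e i) 1)]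
  simp only [hπ]

theorem linForm_mem_idealOfVars (v : σ →₀ B) : linForm v ∈ Ideal.span (Set.range (X : σ → MvPolynomial σ B)) := by
  rw [linForm, Finsupp.linearCombination_apply, Finsupp.sum]
  refine Ideal.sum_mem _ fun j _ => ?_
  rw [smul_eq_C_mul]
  exact Ideal.mul_mem_left _ _ (Ideal.subset_span ⟨j, rfl⟩)

include hu in
theorem toDiag_linForm_mem (v : σ →₀ B) :
    toDiag u (linForm v) ∈ KaehlerDifferential.ideal A B := by
  induction v using Finsupp.induction_linear with
  | zero => simp
  | add f g hf hg => rw [map_add, map_add]; exact add_mem hf hg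
  | single j c =>
    rw [linForm, Finsupp.linearCombination_single, map_smul, toDiag, aeval_X]
    exact Submodule.smul_of_tower_mem _ c (hu j)

theorem toCotangent_toDiag_linForm
    (hr : ∀ j, (KaehlerDifferential.ideal A B).toCotangent ⟨u j, hu j⟩ = r (Finsupp.single j 1))
    (v : σ →₀ B) :
    (KaehlerDifferential.ideal A B).toCotangent
      ⟨toDiag u (linForm v), toDiag_linForm_mem u hu v⟩ = r v := by
  let l : (σ →₀ B) →ₗ[B] KaehlerDifferential A B :=
    ((KaehlerDifferential.ideal A B).toCotangent.restrictScalars B).comp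
      (LinearMap.codRestrict ((KaehlerDifferential.ideal A B).restrictScalars B)
        ((toDiag u).toLinearMap ∘ₗ linForm) (toDiag_linForm_mem u hu) : (σ →₀ B) →ₗ[B] _)
  suffices h : l = r from DFunLike.congr_fun h v
  refine Finsupp.lhom_ext fun j c => ?_
  have h1 : l (Finsupp.single j 1) = r (Finsupp.single j 1) := by
    rw [← hr j]
    show (KaehlerDifferential.ideal A B).toCotangent _ = _
    congr 1
    refine Subtype.ext ?_
    show toDiag u (linForm (Finsupp.single j 1)) = u j
    simp [linForm, toDiag]
  rw [← Finsupp.smul_single_one, map_smul, map_smul, h1]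

theorem toDiag_linForm_sub_del_mem
    (hr : ∀ j, (KaehlerDifferential.ideal A B).toCotangent ⟨u j, hu j⟩ = r (Finsupp.single j 1))
    {v : σ →₀ B} {b : B} (hv : r v = KaehlerDifferential.D A B b) :
    toDiag u (linForm v) - del A b ∈ KaehlerDifferential.ideal A B ^ 2 := by
  have h := toCotangent_toDiag_linForm u hu r hr v
  rw [hv] at h
  exact ((KaehlerDifferential.ideal A B).toCotangent_eq (x := ⟨_, toDiag_linForm_mem u hu v⟩)
    (y := ⟨_, del_mem b⟩)).1 h

/-- The substitution `X j ↦ L (s (r (single j 1)))`, a projection onto the polynomials coming from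
`Ω`. -/
def proj (s : KaehlerDifferential A B →ₗ[B] σ →₀ B) : MvPolynomial σ B →ₐ[B] MvPolynomial σ B :=
  aeval fun j => linForm (s (r (Finsupp.single j 1)))

theorem proj_linForm (s : KaehlerDifferential A B →ₗ[B] σ →₀ B) (v : σ →₀ B) :
    proj r s (linForm v) = linForm (s (r v)) := by
  induction v using Finsupp.induction_linear with
  | zero => simp
  | add f g hf hg => simp only [map_add, hf, hg]
  | single j c =>
    have h1 : linForm (Finsupp.single j c) = c • (X j : MvPolynomial σ B) := by
      rw [linForm, Finsupp.linearCombination_single]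
    rw [h1, map_smul, proj, aeval_X, ← Finsupp.smul_single_one j c, map_smul, map_smul, map_smul]

include hu in
/-- The graded map is bijective when the substitution detects polynomials coming from `Ω`. -/
theorem exists_graded_bijective
    (hr : ∀ j, (KaehlerDifferential.ideal A B).toCotangent ⟨u j, hu j⟩ = r (Finsupp.single j 1))
    (s : KaehlerDifferential A B →ₗ[B] σ →₀ B) (hrs : ∀ x, r (s x) = x)
    (hdet : ∀ (k : ℕ) (h : MvPolynomial σ B), h.IsHomogeneous k → proj r s h = h →
      toDiag u h ∈ KaehlerDifferential.ideal A B ^ (k + 1) → h = 0)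
    (ι : Type u) [Fintype ι] :
    ∃ φ : SymmetricPower B ι (KaehlerDifferential A B) →ₗ[B] PP16.grI A B (Fintype.card ι),
      (∀ b : ι → B, φ (SymmetricPower.tprod B (fun i => KaehlerDifferential.D A B (b i))) =
        PP16.zetaProd A B b) ∧ Function.Bijective φ := by
  classical
  let Θ : SymmetricPower B ι (KaehlerDifferential A B) →ₗ[B] MvPolynomial σ B :=
    symLift ((prodForm ι).compLinearMap fun _ => s) fun e x => by
      simp only [MultilinearMap.compLinearMap_apply, prodForm_apply]
      exact Equiv.prod_comp e fun i => linForm (s (x i))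
  have hΘt : ∀ x, Θ (SymmetricPower.tprod B x) = prodForm ι fun i => s (x i) :=
    fun x => symLift_tprod _ _ x
  have hΘhom : ∀ z, (Θ z).IsHomogeneous (Fintype.card ι) := by
    intro z
    have hz : z ∈ Submodule.span B (Set.range (SymmetricPower.tprod B (ι := ι)
        (M := KaehlerDifferential A B))) := (SymmetricPower.span_tprod_eq_top B ι (KaehlerDifferential A B)) ▸ Submodule.mem_top
    induction hz using Submodule.span_induction with
    | mem y hy => obtain ⟨x, rfl⟩ := hy; rw [hΘt]; exact prodForm_isHomogeneous _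
    | zero => rw [map_zero]; exact isHomogeneous_zero _ _ _
    | add y w _ _ hy hw => rw [map_add]; exact hy.add hw
    | smul c y _ hy =>
      rw [map_smul, smul_eq_C_mul]
      simpa using (isHomogeneous_C σ c).mul hy
  have hleft : (ofPoly r ι).comp Θ = LinearMap.id := sym_ext fun x => by
    rw [LinearMap.comp_apply, hΘt, ofPoly_prodForm]
    simp [hrs]
  have hproj : (proj r s).toLinearMap.comp Θ = Θ := sym_ext fun x => by
    simp [hΘt, prodForm_apply, proj_linForm, hrs]
  let φ : SymmetricPower B ι (KaehlerDifferential A B) →ₗ[B] PP16.grI A B (Fintype.card ι) :=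
    (Submodule.mkQ _).comp (LinearMap.codRestrict
      ((KaehlerDifferential.ideal A B ^ Fintype.card ι).restrictScalars B)
      ((toDiag u).toLinearMap.comp Θ) fun z => toDiag_mem_of_isHomogeneous u hu (hΘhom z))
  have hφ : ∀ b : ι → B, φ (SymmetricPower.tprod B (fun i => KaehlerDifferential.D A B (b i))) =
      PP16.zetaProd A B b := by
    intro b
    refine (Submodule.Quotient.eq _).2 ?_
    show toDiag u (Θ _) - ∏ i, del A (b i) ∈ KaehlerDifferential.ideal A B ^ (Fintype.card ι + 1)
    rw [hΘt, prodForm_apply, map_prod]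
    exact prod_sub_prod_mem _ Finset.univ _ _ (fun i _ => toDiag_linForm_mem u hu _)
      (fun i _ => del_mem (b i)) fun i _ => toDiag_linForm_sub_del_mem u hu r hr (hrs _)
  have hφeq : ∀ z y (hy : y ∈ KaehlerDifferential.ideal A B ^ Fintype.card ι),
      φ z = Submodule.Quotient.mk ⟨y, hy⟩ ↔
        toDiag u (Θ z) - y ∈ KaehlerDifferential.ideal A B ^ (Fintype.card ι + 1) :=
    fun z y hy => Submodule.Quotient.eq _
  refine ⟨φ, hφ, ?_, ?_⟩
  · rw [injective_iff_map_eq_zero]
    intro z hz
    have h0 : toDiag u (Θ z) ∈ KaehlerDifferential.ideal A B ^ (Fintype.card ι + 1) := by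
      have := (hφeq z 0 (zero_mem _)).1 (hz.trans (Submodule.Quotient.mk_zero _).symm)
      rwa [sub_zero] at this
    have h1 := hdet _ _ (hΘhom z) (LinearMap.congr_fun hproj z) h0
    have h2 := LinearMap.congr_fun hleft z
    rw [LinearMap.comp_apply, h1, map_zero] at h2
    exact h2.symm
  · intro g
    obtain ⟨⟨x, hx⟩, rfl⟩ := Submodule.Quotient.mk_surjective _ g
    obtain ⟨y, hy, hxy⟩ := exists_mem_span_prod_del (Finset.univ : Finset ι) (x := x)
      (by simpa using hx)
    have key : ∃ z, toDiag u (Θ z) - y ∈ KaehlerDifferential.ideal A B ^ (Fintype.card ι + 1) := by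
      clear hxy
      induction hy using Submodule.span_induction with
      | mem w hw =>
        obtain ⟨b, rfl⟩ := hw
        exact ⟨_, (hφeq _ _ _).1 (hφ b)⟩
      | zero => exact ⟨0, by simp⟩
      | add w w' _ _ hw hw' =>
        obtain ⟨z, hz⟩ := hw
        obtain ⟨z', hz'⟩ := hw'
        exact ⟨z + z', by rw [map_add, map_add, add_sub_add_comm]; exact add_mem hz hz'⟩
      | smul c w _ hw =>
        obtain ⟨z, hz⟩ := hw
        refine ⟨c • z, ?_⟩
        rw [map_smul, map_smul, ← smul_sub]
        exact Submodule.smul_of_tower_mem _ c hz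
    obtain ⟨z, hz⟩ := key
    refine ⟨z, (hφeq z x hx).2 ?_⟩
    show toDiag u (Θ z) - x ∈ KaehlerDifferential.ideal A B ^ (Fintype.card ι + 1)
    rw [show toDiag u (Θ z) - x = (toDiag u (Θ z) - y) - (x - y) by ring]
    exact sub_mem hz (by simpa using hxy)

end gr

end GrothLib.PrincipalParts
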