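import Groth.Agent.Lib.PrincipalParts.Basic
import Mathlib.LinearAlgebra.TensorProduct.RightExactness

/-!
# Kernels of functoriality maps of principal parts
-/

universe u v

noncomputable section

namespace GrothLib.PrincipalParts

open scoped TensorProduct

/-- A map of quotients by `m`-th powers induced by a surjection carrying `I` onto `J`. -/
theorem surjective_and_ker_of_quot_pow {R : Type u} {S : Type v} [CommRing R] [CommRing S]
    (φ : R →+* S) (hφ : Function.Surjective φ) (I : Ideal R) (J : Ideal S) (hIJ : I.map φ = J)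
    (m : ℕ) (π : R ⧸ I ^ m →+* S ⧸ J ^ m)
    (hπ : ∀ x, π (Ideal.Quotient.mk _ x) = Ideal.Quotient.mk _ (φ x)) :
    Function.Surjective π ∧ RingHom.ker π = (RingHom.ker φ).map (Ideal.Quotient.mk (I ^ m)) := by
  constructor
  · intro y
    obtain ⟨s, rfl⟩ := Ideal.Quotient.mk_surjective y
    obtain ⟨r, rfl⟩ := hφ s
    exact ⟨_, hπ r⟩
  · apply le_antisymm
    · intro x hx
      obtain ⟨r, rfl⟩ := Ideal.Quotient.mk_surjective x
      rw [RingHom.mem_ker, hπ, Ideal.Quotient.eq_zero_iff_mem, ← hIJ, ← Ideal.map_pow,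
        Ideal.mem_map_iff_of_surjective _ hφ] at hx
      obtain ⟨t, ht, htr⟩ := hx
      rw [show Ideal.Quotient.mk (I ^ m) r = Ideal.Quotient.mk (I ^ m) (r - t) by
        rw [map_sub, Ideal.Quotient.eq_zero_iff_mem.2 ht, sub_zero]]
      exact Ideal.mem_map_of_mem _ (by rw [RingHom.mem_ker, map_sub, htr, sub_self])
    · rw [Ideal.map_le_iff_le_comap]
      intro r hr
      rw [Ideal.mem_comap, RingHom.mem_ker, hπ, RingHom.mem_ker.1 hr, map_zero]

theorem map_ideal_tensorMap {A B A' B' : Type u} [CommRing A] [CommRing B] [Algebra A B]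
    [CommRing A'] [CommRing B'] [Algebra A' B'] [Algebra A A'] [Algebra B B'] [Algebra A B']
    [IsScalarTower A A' B'] [IsScalarTower A B B']
    (hs : Function.Surjective (algebraMap B B')) :
    (KaehlerDifferential.ideal A B).map (PP16.tensorMap A B A' B').toRingHom =
      KaehlerDifferential.ideal A' B' := by
  refine le_antisymm (PP16.ideal_map_tensorMap_le A B A' B') ?_
  rw [← KaehlerDifferential.span_range_eq_ideal, Ideal.span_le]
  rintro _ ⟨c, rfl⟩
  obtain ⟨b, rfl⟩ := hs c
  have h := Ideal.mem_map_of_mem (PP16.tensorMap A B A' B').toRingHom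
    (KaehlerDifferential.one_smul_sub_smul_one_mem_ideal A (S := B) b)
  rw [map_sub] at h
  simpa [PP16.tensorMap_tmul] using h

theorem tensorMap_surjective {A B A' B' : Type u} [CommRing A] [CommRing B] [Algebra A B]
    [CommRing A'] [CommRing B'] [Algebra A' B'] [Algebra A A'] [Algebra B B'] [Algebra A B']
    [IsScalarTower A A' B'] [IsScalarTower A B B']
    (hs : Function.Surjective (algebraMap B B')) :
    Function.Surjective (PP16.tensorMap A B A' B') := by
  intro x
  induction x using TensorProduct.induction_on with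
  | zero => exact ⟨0, map_zero _⟩
  | tmul c d =>
    obtain ⟨b, rfl⟩ := hs c
    obtain ⟨b', rfl⟩ := hs d
    exact ⟨b ⊗ₜ b', PP16.tensorMap_tmul A B A' B' b b'⟩
  | add x y hx hy =>
    obtain ⟨x', rfl⟩ := hx; obtain ⟨y', rfl⟩ := hy
    exact ⟨x' + y', map_add _ _ _⟩

theorem ker_tensorMap_tower {A B C : Type u} [CommRing A] [CommRing B] [CommRing C]
    [Algebra A B] [Algebra B C] [Algebra A C] [IsScalarTower A B C] :
    RingHom.ker (PP16.tensorMap A C B C).toRingHom =
      (KaehlerDifferential.ideal A B).map (PP16.tensorMap A B A C).toRingHom := by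
  apply le_antisymm
  · set L := (KaehlerDifferential.ideal A B).map (PP16.tensorMap A B A C).toRingHom with hL
    let q := Ideal.Quotient.mk L
    have hkey : ∀ b : B, q ((1 : C) ⊗ₜ[A] algebraMap B C b) =
        q (algebraMap B C b ⊗ₜ[A] (1 : C)) := fun b => by
      refine Ideal.Quotient.eq.2 ?_
      have h := Ideal.mem_map_of_mem (PP16.tensorMap A B A C).toRingHom
        (KaehlerDifferential.one_smul_sub_smul_one_mem_ideal A (S := B) b)
      rw [← hL, map_sub, AlgHom.toRingHom_eq_coe, AlgHom.coe_toRingHom, PP16.tensorMap_tmul,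
        PP16.tensorMap_tmul, map_one] at h
      exact h
    let f : C →ₐ[B] (C ⊗[A] C) ⧸ L :=
      { toRingHom := q.comp (Algebra.TensorProduct.includeLeftRingHom (R := A) (A := C) (B := C))
        commutes' := fun b => rfl }
    let g : C →ₐ[B] (C ⊗[A] C) ⧸ L :=
      { toRingHom := q.comp (Algebra.TensorProduct.includeRight (R := A) (A := C) (B := C)).toRingHom
        commutes' := fun b => hkey b }
    have hcomp : ∀ x, Algebra.TensorProduct.lift f g (fun _ _ => Commute.all _ _)
        (PP16.tensorMap A C B C x) = q x := by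
      intro x
      induction x using TensorProduct.induction_on with
      | zero => simp
      | tmul c d =>
        rw [PP16.tensorMap_tmul, Algebra.TensorProduct.lift_tmul]
        show q (c ⊗ₜ[A] (1 : C)) * q ((1 : C) ⊗ₜ[A] d) = q (c ⊗ₜ[A] d)
        rw [← map_mul, Algebra.TensorProduct.tmul_mul_tmul, mul_one, one_mul]
      | add x y hx hy => simp only [map_add, hx, hy]
    intro x hx
    apply Ideal.Quotient.eq_zero_iff_mem.1
    show q x = 0
    rw [← hcomp x, show PP16.tensorMap A C B C x = 0 from hx, map_zero]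
  · rw [← KaehlerDifferential.span_range_eq_ideal, Ideal.map_span, Ideal.span_le]
    rintro _ ⟨_, ⟨b, rfl⟩, rfl⟩
    show PP16.tensorMap A C B C (PP16.tensorMap A B A C _) = 0
    simp only [map_sub, PP16.tensorMap_tmul, map_one, Algebra.algebraMap_self, RingHom.id_apply]
    rw [sub_eq_zero, Algebra.algebraMap_eq_smul_one, TensorProduct.smul_tmul]

theorem map_mk_eq {n : ℕ} {A B A' B' : Type u} [CommRing A] [CommRing B] [Algebra A B]
    [CommRing A'] [CommRing B'] [Algebra A' B'] [Algebra A A'] [Algebra B B'] [Algebra A B']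
    [IsScalarTower A A' B'] [IsScalarTower A B B'] (x : B ⊗[A] B) :
    (PP16.map n A B A' B').toRingHom (Ideal.Quotient.mk _ x) =
      Ideal.Quotient.mk _ ((PP16.tensorMap A B A' B').toRingHom x) := rfl

end GrothLib.PrincipalParts
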