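import Groth.Agent.Lib.PrincipalParts.Smooth
import Groth.Agent.Lib.DiffOp.Coordinates

/-!
# Monomial bases of principal parts and divided power operators
-/

universe u v w

noncomputable section

namespace GrothLib.PrincipalParts

open scoped TensorProduct
open MvPolynomial Diff16

variable {A B : Type u} [CommRing A] [CommRing B] [Algebra A B]
variable {ι : Type w} [Fintype ι] (z : ι → B)

/-- The substitution `X i ↦ 1 ⊗ z i - z i ⊗ 1`. -/
abbrev zdiag : MvPolynomial ι B →ₐ[B] B ⊗[A] B := toDiag fun i => del A (z i)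

/-- `h ↦` class in `P^m` of `h` evaluated at the `ζ i`. -/
def evP (m : ℕ) : MvPolynomial ι B →ₗ[B] PP16.P m A B :=
  (Ideal.Quotient.mkₐ B (KaehlerDifferential.ideal A B ^ (m + 1))).toLinearMap ∘ₗ
    (zdiag (A := A) z).toLinearMap

theorem evP_eq_zero_iff (m : ℕ) (h : MvPolynomial ι B) :
    evP (A := A) z m h = 0 ↔ zdiag (A := A) z h ∈ KaehlerDifferential.ideal A B ^ (m + 1) :=
  Ideal.Quotient.eq_zero_iff_mem

theorem zdiag_mem_pow {k : ℕ} {h : MvPolynomial ι B} (hh : h ∈ idealOfVars ι B ^ k) :
    zdiag (A := A) z h ∈ KaehlerDifferential.ideal A B ^ k := by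
  have hle : (idealOfVars ι B).map (zdiag (A := A) z) ≤ KaehlerDifferential.ideal A B := by
    rw [Ideal.map_span, Ideal.span_le]
    rintro _ ⟨_, ⟨i, rfl⟩, rfl⟩
    rw [zdiag, toDiag, aeval_X]
    exact del_mem _
  have h1 := Ideal.mem_map_of_mem (zdiag (A := A) z) hh
  rw [Ideal.map_pow] at h1
  exact Ideal.pow_right_mono hle _ h1

/-- Detection: a combination of monomials in the `ζ` lies in `I^k` only if its coefficients of
degree `< k` vanish. -/
def Detects (A : Type u) [CommRing A] [Algebra A B] (z : ι → B) : Prop :=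
  ∀ (k : ℕ) (h : MvPolynomial ι B), zdiag (A := A) z h ∈ KaehlerDifferential.ideal A B ^ k →
    ∀ d : ι →₀ ℕ, d.degree < k → coeff d h = 0

theorem detects_of_homogeneous
    (hom : ∀ (k : ℕ) (h : MvPolynomial ι B), h.IsHomogeneous k →
      zdiag (A := A) z h ∈ KaehlerDifferential.ideal A B ^ (k + 1) → h = 0) : Detects A z := by
  intro k
  induction k with
  | zero => intro h _ d hd; omega
  | succ k ih =>
    intro h hh d hd
    have hlow := ih h (Ideal.pow_le_pow_right (by omega) hh)
    have hhigh : h - homogeneousComponent k h ∈ idealOfVars ι B ^ (k + 1) := by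
      rw [mem_pow_idealOfVars_iff']
      intro x hx
      rw [coeff_sub, coeff_homogeneousComponent]
      by_cases hxk : x.degree = k
      · rw [if_pos hxk, sub_self]
      · rw [if_neg hxk, sub_zero]; exact hlow x (by omega)
    have h1 := sub_mem hh (zdiag_mem_pow (A := A) z hhigh)
    rw [map_sub, sub_sub_cancel] at h1
    have h2 := congrArg (coeff d) (hom k _ (homogeneousComponent_isHomogeneous k h) h1)
    rw [coeff_homogeneousComponent, coeff_zero] at h2
    by_cases hdk : d.degree = k
    · rwa [if_pos hdk] at h2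
    · exact hlow d (by omega)

theorem detects_of_isDiffSmooth (hB : PP16.IsDiffSmooth A B)
    (b : Module.Basis ι B (KaehlerDifferential A B))
    (hb : ∀ i, b i = KaehlerDifferential.D A B (z i)) : Detects A z := by
  classical
  refine detects_of_homogeneous z fun k h hh hmem => ?_
  obtain ⟨φ, hφ, hinj, _⟩ := hB.2 (ULift.{u} (Fin k))
  let r : (ι →₀ B) →ₗ[B] KaehlerDifferential A B := b.repr.symm.toLinearMap
  let Θ : SymmetricPower B (ULift.{u} (Fin k)) (KaehlerDifferential A B) →ₗ[B] MvPolynomial ι B :=
    symLift ((prodForm (ULift.{u} (Fin k))).compLinearMap fun _ => b.repr.toLinearMap) fun e x => by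
      simp only [MultilinearMap.compLinearMap_apply, prodForm_apply]
      exact Equiv.prod_comp e fun i => linForm (b.repr (x i))
  have hmon : ∀ d : ι →₀ ℕ, d.degree = k → ∀ c : B, ∃ e : ULift.{u} (Fin k) → ι,
      monomial d c = c • ∏ i, X (e i) ∧ ofPoly r (ULift.{u} (Fin k)) (monomial d c) =
        c • SymmetricPower.tprod B fun i => KaehlerDifferential.D A B (z (e i)) := by
    intro d hd c
    obtain ⟨e, he⟩ := exists_enum (ι := ULift.{u} (Fin k)) d (by simpa using hd)
    have h1 : monomial d c = c • ∏ i, X (e i) := by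
      rw [← he, monomial_sum_index, smul_eq_C_mul]
      rfl
    have h2 : (∏ i, X (e i) : MvPolynomial ι B) =
        prodForm (ULift.{u} (Fin k)) (fun i => Finsupp.single (e i) (1 : B)) := by
      simp [prodForm_apply, linForm]
    refine ⟨e, h1, ?_⟩
    rw [h1, map_smul, h2, ofPoly_prodForm]
    congr 1
    congr 1
    funext i
    simp [r, hb]
  have hsupp : ∀ d ∈ h.support, d.degree = k := fun d hd => by
    rw [Finsupp.degree_eq_weight_one]; exact hh (mem_support_iff.1 hd)
  have hΘ : Θ (ofPoly r _ h) = h := by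
    conv_rhs => rw [h.as_sum]
    conv_lhs => rw [h.as_sum, map_sum, map_sum]
    refine Finset.sum_congr rfl fun d hd => ?_
    obtain ⟨e, h1, h2⟩ := hmon d (hsupp d hd) (coeff d h)
    rw [h2, map_smul, h1]
    congr 1
    refine (symLift_tprod _ _ _).trans ?_
    simp [prodForm_apply, linForm, ← hb]
  have hzero : φ (ofPoly r _ h) = 0 := by
    have hmem' : zdiag (A := A) z h ∈
        KaehlerDifferential.ideal A B ^ Fintype.card (ULift.{u} (Fin k)) := by
      simpa using Ideal.pow_le_pow_right (Nat.le_succ k) hmem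
    have heq : φ (ofPoly r _ h) = Submodule.Quotient.mk ⟨zdiag (A := A) z h, hmem'⟩ := by
      let cls : MvPolynomial ι B →ₗ[B] (B ⊗[A] B) ⧸ ((KaehlerDifferential.ideal A B ^
          (Fintype.card (ULift.{u} (Fin k)) + 1)).restrictScalars B) :=
        Submodule.mkQ _ ∘ₗ (zdiag (A := A) z).toLinearMap
      let incl : PP16.grI A B (Fintype.card (ULift.{u} (Fin k))) →ₗ[B] (B ⊗[A] B) ⧸
          ((KaehlerDifferential.ideal A B ^
            (Fintype.card (ULift.{u} (Fin k)) + 1)).restrictScalars B) :=
        Submodule.mapQ _ _ (Submodule.subtype _) le_rfl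
      have hincl : Function.Injective incl := by
        rw [injective_iff_map_eq_zero]
        intro x hx
        obtain ⟨x, rfl⟩ := Submodule.Quotient.mk_surjective _ x
        have h2 : (x : B ⊗[A] B) ∈ (KaehlerDifferential.ideal A B ^
            (Fintype.card (ULift.{u} (Fin k)) + 1)).restrictScalars B :=
          (Submodule.Quotient.mk_eq_zero _ (x := (x : B ⊗[A] B))).1 hx
        exact (Submodule.Quotient.mk_eq_zero _).2 h2
      apply hincl
      show incl (φ (ofPoly r _ h)) = cls h
      conv_lhs => rw [h.as_sum, map_sum, map_sum, map_sum]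
      conv_rhs => rw [h.as_sum, map_sum]
      refine Finset.sum_congr rfl fun d hd => ?_
      obtain ⟨e, h1, h2⟩ := hmon d (hsupp d hd) (coeff d h)
      rw [h2, map_smul, map_smul, h1, map_smul, hφ]
      congr 1
      show Submodule.Quotient.mk _ = Submodule.Quotient.mk (zdiag (A := A) z (∏ i, X (e i)))
      congr 1
      simp [zdiag, toDiag, del]
    rw [heq]
    refine (Submodule.Quotient.mk_eq_zero _).2 ?_
    show zdiag (A := A) z h ∈
      KaehlerDifferential.ideal A B ^ (Fintype.card (ULift.{u} (Fin k)) + 1)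
    simpa using hmem
  rw [← hΘ, hinj (hzero.trans (map_zero φ).symm), map_zero]

variable (hz : Submodule.span B (Set.range fun i => KaehlerDifferential.D A B (z i)) = ⊤)

include hz in
theorem exists_homogeneous_approx (k : ℕ) {x : B ⊗[A] B}
    (hx : x ∈ KaehlerDifferential.ideal A B ^ k) :
    ∃ h : MvPolynomial ι B, h.IsHomogeneous k ∧
      x - zdiag (A := A) z h ∈ KaehlerDifferential.ideal A B ^ (k + 1) := by
  classical
  let r : (ι →₀ B) →ₗ[B] KaehlerDifferential A B :=
    Finsupp.linearCombination B fun i => KaehlerDifferential.D A B (z i)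
  have hr : ∀ j, (KaehlerDifferential.ideal A B).toCotangent ⟨del A (z j), del_mem _⟩ =
      r (Finsupp.single j 1) := fun j => by
    simp only [r, Finsupp.linearCombination_single, one_smul]
    rfl
  have hsurj : Function.Surjective r := by
    intro y
    have : y ∈ Submodule.span B (Set.range fun i => KaehlerDifferential.D A B (z i)) :=
      hz ▸ Submodule.mem_top
    exact Finsupp.mem_span_range_iff_exists_finsupp.1 this
  obtain ⟨y, hy, hxy⟩ := exists_mem_span_prod_del (Finset.univ : Finset (ULift.{u} (Fin k)))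
    (x := x) (by simpa using hx)
  simp only [Finset.card_univ, Fintype.card_ulift, Fintype.card_fin] at hxy
  suffices H : ∃ h : MvPolynomial ι B, h.IsHomogeneous k ∧
      y - zdiag (A := A) z h ∈ KaehlerDifferential.ideal A B ^ (k + 1) by
    obtain ⟨h, hh, h1⟩ := H
    exact ⟨h, hh, by simpa using add_mem hxy h1⟩
  clear hxy
  induction hy using Submodule.span_induction with
  | mem w hw =>
    obtain ⟨c, rfl⟩ := hw
    choose v hv using fun i => hsurj (KaehlerDifferential.D A B (c i))
    refine ⟨prodForm (ULift.{u} (Fin k)) v, by simpa using prodForm_isHomogeneous v, ?_⟩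
    rw [prodForm_apply, map_prod]
    have := prod_sub_prod_mem (KaehlerDifferential.ideal A B) Finset.univ
      (fun i => del A (c i)) (fun i => zdiag (A := A) z (linForm (v i)))
      (fun i _ => del_mem _) (fun i _ => toDiag_linForm_mem _ (fun _ => del_mem _) _)
      (fun i _ => by
        rw [← neg_mem_iff, neg_sub]
        exact toDiag_linForm_sub_del_mem _ (fun _ => del_mem _) r hr (hv i))
    simpa using this
  | zero => exact ⟨0, isHomogeneous_zero _ _ _, by simp⟩
  | add w w' _ _ hw hw' =>
    obtain ⟨h, h1, h2⟩ := hw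
    obtain ⟨h', h1', h2'⟩ := hw'
    exact ⟨h + h', h1.add h1', by rw [map_add, add_sub_add_comm]; exact add_mem h2 h2'⟩
  | smul a w _ hw =>
    obtain ⟨h, h1, h2⟩ := hw
    refine ⟨C a * h, by simpa using (isHomogeneous_C ι a).mul h1, ?_⟩
    rw [← smul_eq_C_mul, map_smul, ← smul_sub]
    exact Submodule.smul_of_tower_mem _ a h2

include hz in
theorem exists_approx (m : ℕ) (x : B ⊗[A] B) :
    ∃ h : MvPolynomial ι B, (∀ d ∈ h.support, d.degree ≤ m) ∧
      x - zdiag (A := A) z h ∈ KaehlerDifferential.ideal A B ^ (m + 1) := by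
  classical
  induction m with
  | zero =>
    obtain ⟨h, h1, h2⟩ := exists_homogeneous_approx z hz 0 (x := x) (by simp)
    refine ⟨h, fun d hd => le_of_eq ?_, h2⟩
    rw [Finsupp.degree_eq_weight_one]; exact h1 (mem_support_iff.1 hd)
  | succ m ih =>
    obtain ⟨h, h1, h2⟩ := ih
    obtain ⟨g, g1, g2⟩ := exists_homogeneous_approx z hz (m + 1) h2
    refine ⟨h + g, fun d hd => ?_, by rw [map_add, ← sub_sub]; exact g2⟩
    rcases Finset.mem_union.1 (MvPolynomial.support_add hd) with hd' | hd'
    · exact (h1 d hd').trans (Nat.le_succ m)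
    · exact le_of_eq (by rw [Finsupp.degree_eq_weight_one]; exact g1 (mem_support_iff.1 hd'))

/-- The exponent subtype as a finitely supported exponent. -/
abbrev expOf {m : ℕ} (p : {p : ι → ℕ // ∑ i, p i ≤ m}) : ι →₀ ℕ :=
  Finsupp.equivFunOnFinite.symm p.1

theorem degree_symm (p : ι → ℕ) : (Finsupp.equivFunOnFinite.symm p).degree = ∑ i, p i := by
  simp [Finsupp.degree_eq_sum]

include hz in
theorem exists_monomial_basis (hdet : Detects A z) (m : ℕ) :
    ∃ b : Module.Basis {p : ι → ℕ // ∑ i, p i ≤ m} B (PP16.P m A B),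
      (∀ p, b p = evP (A := A) z m (monomial (expOf p) 1)) ∧
      ∀ (h : MvPolynomial ι B) p, b.coord p (evP (A := A) z m h) = coeff (expOf p) h := by
  classical
  let f : {p : ι → ℕ // ∑ i, p i ≤ m} → PP16.P m A B :=
    fun p => evP (A := A) z m (monomial (expOf p) 1)
  have hinj : Function.Injective (expOf (ι := ι) (m := m)) := fun p q hpq =>
    Subtype.ext (Finsupp.equivFunOnFinite.symm.injective hpq)
  have hli : LinearIndependent B f := by
    rw [linearIndependent_iff]
    intro l hl
    ext p
    let h : MvPolynomial ι B := l.sum fun q c => monomial (expOf q) c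
    have hev : evP (A := A) z m h = Finsupp.linearCombination B f l := by
      rw [Finsupp.linearCombination_apply]
      simp only [h, Finsupp.sum, map_sum, f]
      refine Finset.sum_congr rfl fun q _ => ?_
      rw [← map_smul, smul_monomial, smul_eq_mul, mul_one]
    have h0 := hdet (m + 1) h ((evP_eq_zero_iff z m h).1 (hev.trans hl)) (expOf p)
      (by have := p.2; rw [degree_symm]; omega)
    simp only [h, Finsupp.sum, coeff_sum, coeff_monomial, hinj.eq_iff, Finset.sum_ite_eq'] at h0
    simpa using h0
  have hsp : ⊤ ≤ Submodule.span B (Set.range f) := by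
    intro y _
    obtain ⟨x, rfl⟩ := Ideal.Quotient.mk_surjective y
    obtain ⟨h, h1, h2⟩ := exists_approx z hz m x
    have : Ideal.Quotient.mk (KaehlerDifferential.ideal A B ^ (m + 1)) x = evP (A := A) z m h :=
      Ideal.Quotient.eq.2 h2
    rw [this, h.as_sum, map_sum]
    refine Submodule.sum_mem _ fun d hd => ?_
    have hd' : ∑ i, d i ≤ m := by
      have := h1 d hd
      rwa [← Finsupp.equivFunOnFinite.symm_apply_apply d, degree_symm] at this
    rw [← mul_one (coeff d h), ← smul_eq_mul, ← smul_monomial, map_smul]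
    refine Submodule.smul_mem _ _ (Submodule.subset_span ⟨⟨d, hd'⟩, ?_⟩)
    simp only [f, expOf, Finsupp.equivFunOnFinite_symm_coe]
  refine ⟨Module.Basis.mk hli hsp, fun p => Module.Basis.mk_apply _ _ _, fun h p => ?_⟩
  conv_rhs => rw [h.as_sum, coeff_sum]
  conv_lhs => rw [h.as_sum, map_sum, map_sum]
  refine Finset.sum_congr rfl fun d _ => ?_
  by_cases hd : ∑ i, d i ≤ m
  · have hd2 : monomial d (coeff d h) = coeff d h • monomial (expOf ⟨d, hd⟩) 1 := by
      rw [smul_monomial, smul_eq_mul, mul_one]
      congr 2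
      exact (Finsupp.equivFunOnFinite.symm_apply_apply d).symm
    have hd3 : f ⟨d, hd⟩ = Module.Basis.mk hli hsp ⟨d, hd⟩ := (Module.Basis.mk_apply _ _ _).symm
    have hL : evP (A := A) z m (monomial d (coeff d h)) =
        coeff d h • Module.Basis.mk hli hsp ⟨d, hd⟩ := by
      rw [← hd3]
      exact (congrArg (evP (A := A) z m) hd2).trans (map_smul (evP (A := A) z m) _ _)
    have hde : expOf (⟨d, hd⟩ : {p : ι → ℕ // ∑ i, p i ≤ m}) = d :=
      Finsupp.equivFunOnFinite.symm_apply_apply d
    rw [hL, map_smul, Module.Basis.coord_apply, Module.Basis.repr_self, Finsupp.single_apply,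
      coeff_monomial, smul_eq_mul, mul_ite, mul_one, mul_zero]
    refine if_congr ⟨fun e => ?_, fun e => ?_⟩ rfl rfl
    · rw [← e, hde]
    · exact hinj (hde.trans e)
  · have hne : d ≠ expOf p := fun e => hd (by
      rw [e]
      simpa [expOf] using p.2)
    rw [coeff_monomial, if_neg hne]
    have : evP (A := A) z m (monomial d (coeff d h)) = 0 := by
      rw [evP_eq_zero_iff]
      apply zdiag_mem_pow
      rw [mem_pow_idealOfVars_iff']
      intro x hx
      rw [coeff_monomial, if_neg]
      intro e
      apply hd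
      have : d.degree ≤ m := by rw [e]; omega
      rwa [← Finsupp.equivFunOnFinite.symm_apply_apply d, degree_symm] at this
    rw [this, map_zero]

include hz in
theorem dividedPower_of_detects (hdet : Detects A z) :
    ∃ Dp : (ι → ℕ) → (B →ₗ[A] B),
      (∀ p, IsDiffOpLE A B B B (∑ i, p i) (Dp p)) ∧
      (∀ p q : ι → ℕ, Dp p (∏ i, z i ^ q i) =
        ((∏ i, Nat.choose (q i) (p i) : ℕ) : B) * ∏ i, z i ^ (q i - p i)) := by
  classical
  have key : ∀ p : ι → ℕ, ∃ D : B →ₗ[A] B, IsDiffOpLE A B B B (∑ i, p i) D ∧
      ∀ q : ι → ℕ, D (∏ i, z i ^ q i) =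
        ((∏ i, Nat.choose (q i) (p i) : ℕ) : B) * ∏ i, z i ^ (q i - p i) := by
    intro p
    obtain ⟨b, _, hcoord⟩ := exists_monomial_basis z hz hdet (∑ i, p i)
    let p' : {q : ι → ℕ // ∑ i, q i ≤ ∑ i, p i} := ⟨p, le_rfl⟩
    let D : B →ₗ[A] B :=
      (b.coord p').restrictScalars A ∘ₗ (PP16.dn (∑ i, p i) A B).toLinearMap
    have hlin : ∀ x : B ⊗[A] B, linearize A B B B D x =
        b.coord p' (Ideal.Quotient.mk (KaehlerDifferential.ideal A B ^ (∑ i, p i + 1)) x) := by
      intro x
      induction x using TensorProduct.induction_on with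
      | zero => simp
      | tmul c d =>
        rw [GrothLib.DiffOp.linearize_tmul, mk_tmul, ← Algebra.smul_def, map_smul]
        rfl
      | add x y hx hy => simp only [map_add, hx, hy]
    refine ⟨D, (GrothLib.DiffOp.isDiffOpLE_iff_linearize _ D).2 fun x hx => ?_, fun q => ?_⟩
    · rw [hlin, Ideal.Quotient.eq_zero_iff_mem.2 hx, map_zero]
    · show b.coord p' (PP16.dn (∑ i, p i) A B (∏ i, z i ^ q i)) = _
      have hdn : PP16.dn (∑ i, p i) A B (∏ i, z i ^ q i) =
          evP (A := A) z (∑ i, p i) (∏ i, (X i + C (z i)) ^ q i) := by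
        show Ideal.Quotient.mk _ (Algebra.TensorProduct.includeRight (R := A) (A := B) (B := B) _) =
          Ideal.Quotient.mk _ _
        congr 1
        show _ = zdiag (A := A) z _
        simp [zdiag, toDiag, map_prod, del, Algebra.TensorProduct.algebraMap_apply]
      rw [hdn, hcoord]
      simp only [add_pow, Finset.prod_univ_sum, coeff_sum]
      have hterm : ∀ k : ι → ℕ, (∏ i, (X i : MvPolynomial ι B) ^ k i * C (z i) ^ (q i - k i) *
          ((q i).choose (k i) : MvPolynomial ι B)) =
          monomial (Finsupp.equivFunOnFinite.symm k)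
            (((∏ i, (q i).choose (k i) : ℕ) : B) * ∏ i, z i ^ (q i - k i)) := by
        intro k
        rw [monomial_eq]
        simp [Finset.prod_mul_distrib, Finsupp.prod_fintype, map_prod, map_pow, map_natCast]
        ring
      simp only [hterm, coeff_monomial, expOf, p', EmbeddingLike.apply_eq_iff_eq,
        Finset.sum_ite_eq']
      split_ifs with hp
      · rfl
      · simp only [Fintype.mem_piFinset, Finset.mem_range, not_forall, not_lt] at hp
        obtain ⟨i, hi⟩ := hp
        rw [Finset.prod_eq_zero (Finset.mem_univ i) (Nat.choose_eq_zero_of_lt (by omega)),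
          Nat.cast_zero, zero_mul]
  choose Dp h1 h2 using key
  exact ⟨Dp, h1, h2⟩

theorem isDiffOpLE_succ_of_commutator_coordinates {M N : Type v} [AddCommGroup M] [Module A M]
    [Module B M] [IsScalarTower A B M] [AddCommGroup N] [Module A N] [Module B N]
    [IsScalarTower A B N]
    (hz : Submodule.span B (Set.range fun i => KaehlerDifferential.D A B (z i)) = ⊤) (m : ℕ) :
    ∀ (k : ℕ) {E : M →ₗ[A] N}, IsDiffOpLE A B M N k E →
      (∀ i, IsDiffOpLE A B M N m (commutator A B M N E (z i))) →
      IsDiffOpLE A B M N (m + 1) E := by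
  induction m with
  | zero =>
    intro k E hE h b
    refine GrothLib.DiffOp.isDiffOpLE_zero_of_commutator_eq_zero z hz k
      (show IsDiffOpLE A B M N k (commutator A B M N E b) from ?_) fun i => ?_
    · rcases k with _ | k
      · rw [GrothLib.DiffOp.isDiffOpLE_zero_iff_commutator.1 hE b]
        exact GrothLib.DiffOp.isDiffOpLE_zero 0
      · exact GrothLib.DiffOp.isDiffOpLE_succ (hE b)
    · rw [GrothLib.DiffOp.commutator_comm]
      exact GrothLib.DiffOp.isDiffOpLE_zero_iff_commutator.1 (h i) b
  | succ m ih =>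
    intro k E hE h b
    refine ih k (E := commutator A B M N E b) ?_ fun i => ?_
    · rcases k with _ | k
      · rw [GrothLib.DiffOp.isDiffOpLE_zero_iff_commutator.1 hE b]
        exact GrothLib.DiffOp.isDiffOpLE_zero 0
      · exact GrothLib.DiffOp.isDiffOpLE_succ (hE b)
    · rw [GrothLib.DiffOp.commutator_comm]
      exact h i b

variable (Dp : (ι → ℕ) → (B →ₗ[A] B)) (hD : ∀ p, ∃ k : ℕ, IsDiffOpLE A B B B k (Dp p))
  (hDz : ∀ p q : ι → ℕ, Dp p (∏ i, z i ^ q i) =
    ((∏ i, Nat.choose (q i) (p i) : ℕ) : B) * ∏ i, z i ^ (q i - p i))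

include hz hD hDz in
theorem commutator_dividedPower [DecidableEq ι] (p : ι → ℕ) (i : ι) :
    commutator A B B B (Dp p) (z i) = if p i = 0 then 0 else Dp (p - Pi.single i 1) := by
  obtain ⟨k, hk⟩ := hD p
  obtain ⟨k', hk'⟩ := hD (p - Pi.single i 1)
  refine GrothLib.DiffOp.eq_of_eq_on_monomials z hz (max k k') ?_ ?_ fun q _ => ?_
  · exact GrothLib.DiffOp.isDiffOpLE_mono (le_max_left k k')
      (GrothLib.DiffOp.isDiffOpLE_succ hk (z i))
  · split_ifs
    · exact GrothLib.DiffOp.isDiffOpLE_zero _
    · exact GrothLib.DiffOp.isDiffOpLE_mono (le_max_right k k') hk'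
  · have hmul : ∀ q : ι → ℕ, z i * ∏ j, z j ^ q j = ∏ j, z j ^ (q + (Pi.single i 1 : ι → ℕ)) j := by
      intro q
      simp only [Pi.add_apply, pow_add, Finset.prod_mul_distrib]
      rw [mul_comm]
      congr 1
      simp [Pi.single_apply, pow_ite]
    have hsplit : ∀ g : ι → B, ∏ j, g j = g i * ∏ j ∈ Finset.univ.erase i, g j := fun g =>
      (Finset.mul_prod_erase _ g (Finset.mem_univ i)).symm
    rw [GrothLib.DiffOp.commutator_apply, smul_eq_mul, hmul, hDz, smul_eq_mul, hDz]
    simp only [Nat.cast_prod]
    rw [← Finset.prod_mul_distrib, ← Finset.prod_mul_distrib, hsplit, hsplit (fun j => _ * _)]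
    have hrest : ∏ j ∈ Finset.univ.erase i,
        ((((q + (Pi.single i 1 : ι → ℕ)) j).choose (p j) : ℕ) : B) *
          z j ^ ((q + (Pi.single i 1 : ι → ℕ)) j - p j) =
        ∏ j ∈ Finset.univ.erase i, (((q j).choose (p j) : ℕ) : B) * z j ^ (q j - p j) :=
      Finset.prod_congr rfl fun j hj => by simp [Pi.single_apply, Finset.ne_of_mem_erase hj]
    rw [hrest]
    split_ifs with hp
    · simp [hp, pow_succ]
      ring
    · rw [hDz]
      simp only [Nat.cast_prod]
      rw [← Finset.prod_mul_distrib, hsplit (fun j => _ * _)]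
      have hrest2 : ∏ j ∈ Finset.univ.erase i,
          (((q j).choose ((p - (Pi.single i 1 : ι → ℕ)) j) : ℕ) : B) *
            z j ^ (q j - (p - (Pi.single i 1 : ι → ℕ)) j) =
          ∏ j ∈ Finset.univ.erase i, (((q j).choose (p j) : ℕ) : B) * z j ^ (q j - p j) :=
        Finset.prod_congr rfl fun j hj => by simp [Pi.single_apply, Finset.ne_of_mem_erase hj]
      rw [hrest2]
      simp only [Pi.add_apply, Pi.sub_apply, Pi.single_eq_same]
      obtain ⟨a, ha⟩ := Nat.exists_eq_succ_of_ne_zero hp
      rw [ha, Nat.succ_sub_one, Nat.choose_succ_succ, Nat.succ_eq_add_one,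
        Nat.add_sub_add_right, Nat.cast_add]
      rcases Nat.lt_or_ge a (q i) with hlt | hge
      · rw [show q i - a = (q i - (a + 1)) + 1 by omega, pow_succ]
        ring
      · rw [Nat.choose_eq_zero_of_lt (show q i < a + 1 by omega), Nat.cast_zero]
        ring

include hz hD hDz in
theorem isDiffOpLE_degree [DecidableEq ι] (p : ι → ℕ) :
    IsDiffOpLE A B B B (∑ i, p i) (Dp p) := by
  induction hn : ∑ i, p i generalizing p with
  | zero =>
    obtain ⟨k, hk⟩ := hD p
    refine GrothLib.DiffOp.isDiffOpLE_zero_of_commutator_eq_zero z hz k hk fun i => ?_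
    rw [commutator_dividedPower z hz Dp hD hDz, if_pos]
    exact (Finset.sum_eq_zero_iff.1 hn) i (Finset.mem_univ i)
  | succ m ih =>
    obtain ⟨k, hk⟩ := hD p
    refine isDiffOpLE_succ_of_commutator_coordinates z hz m k hk fun i => ?_
    rw [commutator_dividedPower z hz Dp hD hDz]
    split_ifs with hp
    · exact GrothLib.DiffOp.isDiffOpLE_zero _
    · refine ih _ ?_
      have h1 : p = (p - Pi.single i 1) + Pi.single i 1 := by
        funext j
        rcases eq_or_ne j i with rfl | hji
        · simp; omega
        · simp [hji]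
      rw [h1] at hn
      simp [Finset.sum_add_distrib] at hn
      simpa using hn

include hz hD hDz in
theorem linearize_monomial (p : ι → ℕ) (d : ι →₀ ℕ) :
    linearize A B B B (Dp p) (zdiag (A := A) z (monomial d 1)) =
      if (d : ι → ℕ) = p then 1 else 0 := by
  classical
  induction hn : d.degree generalizing p d with
  | zero =>
    obtain rfl : d = 0 := (Finsupp.degree_eq_zero_iff d).1 hn
    rw [show monomial 0 (1 : B) = 1 from rfl, map_one, Algebra.TensorProduct.one_def,
      GrothLib.DiffOp.linearize_tmul, one_smul]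
    have h := hDz p 0
    simp only [Pi.zero_apply, pow_zero, Finset.prod_const_one, Nat.zero_sub, mul_one] at h
    rw [h]
    split_ifs with hp
    · subst hp; simp
    · obtain ⟨i, hi⟩ : ∃ i, p i ≠ 0 := by
        by_contra hh
        exact hp (funext fun i => by
          have := not_exists.1 hh i
          simp at this
          simp [this])
      rw [Finset.prod_eq_zero (Finset.mem_univ i) (Nat.choose_eq_zero_of_lt (by omega)),
        Nat.cast_zero]
  | succ k ih =>
    obtain ⟨i, hi⟩ : ∃ i, d i ≠ 0 := by
      by_contra hh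
      have : d = 0 := Finsupp.ext fun i => by
        have := not_exists.1 hh i
        simp at this
        simp [this]
      simp [this] at hn
    obtain ⟨d', rfl⟩ : ∃ d', d = d' + Finsupp.single i 1 :=
      ⟨d - Finsupp.single i 1,
        (tsub_add_cancel_of_le (Finsupp.single_le_iff.2 (Nat.one_le_iff_ne_zero.2 hi))).symm⟩
    have hd' : d'.degree = k := by
      rw [map_add, Finsupp.degree_single] at hn
      omega
    have hmon : monomial (d' + Finsupp.single i 1) (1 : B) = monomial d' 1 * X i := by
      rw [X, monomial_mul, one_mul]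
    rw [hmon, map_mul, show zdiag (A := A) z (X i) = del A (z i) from aeval_X _ i,
      GrothLib.DiffOp.linearize_mul_delta, commutator_dividedPower z hz Dp hD hDz]
    by_cases hp : p i = 0
    · rw [if_pos hp, if_neg]
      · have hz0 : linearize A B B B (0 : B →ₗ[A] B) = 0 := by
          refine TensorProduct.ext' fun b m => ?_
          simp [GrothLib.DiffOp.linearize_tmul]
        rw [hz0, LinearMap.zero_apply]
      · intro e
        rw [← e] at hp
        simp at hp
    · rw [if_neg hp, ih _ d' hd']
      have hiff : ((d' : ι → ℕ) = p - Pi.single i 1) ↔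
          ((d' + Finsupp.single i 1 : ι →₀ ℕ) : ι → ℕ) = p := by
        constructor
        · intro e
          funext j
          rcases eq_or_ne j i with rfl | hji
          · simp [e]; omega
          · simp [e, hji, Ne.symm hji]
        · intro e
          funext j
          rw [← e]
          rcases eq_or_ne j i with rfl | hji
          · simp
          · simp [hji, Ne.symm hji]
      simp only [hiff]

include hz hD hDz in
theorem detects_of_dividedPower [DecidableEq ι] : Detects A z := by
  intro k h hh d hd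
  have hord : IsDiffOpLE A B B B (∑ i, d i) (Dp d) := isDiffOpLE_degree z hz Dp hD hDz d
  have hdeg : d.degree = ∑ i, d i := Finsupp.degree_eq_sum d
  have h0 := (GrothLib.DiffOp.isDiffOpLE_iff_linearize _ (Dp d)).1 hord (zdiag (A := A) z h)
    (Ideal.pow_le_pow_right (by omega) hh)
  have hlin : ∀ (c : B) (x : B ⊗[A] B),
      linearize A B B B (Dp d) (c • x) = c * linearize A B B B (Dp d) x := by
    intro c x
    induction x using TensorProduct.induction_on with
    | zero => simp
    | tmul a b =>
      rw [TensorProduct.smul_tmul', GrothLib.DiffOp.linearize_tmul, GrothLib.DiffOp.linearize_tmul,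
        smul_eq_mul, smul_eq_mul, smul_eq_mul, mul_assoc]
    | add x y hx hy => simp only [smul_add, map_add, hx, hy, mul_add]
  rw [h.as_sum, map_sum, map_sum] at h0
  rw [Finset.sum_congr rfl (fun e _ => by
    rw [← mul_one (coeff e h), ← smul_eq_mul, ← smul_monomial, map_smul, hlin,
      linearize_monomial z hz Dp hD hDz, smul_eq_mul, mul_one, mul_ite, mul_one, mul_zero] :
    ∀ e ∈ h.support, linearize A B B B (Dp d) (zdiag (A := A) z (monomial e (coeff e h))) =
      if (e : ι → ℕ) = d then coeff e h else 0)] at h0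
  simp only [DFunLike.coe_fn_eq, Finset.sum_ite_eq'] at h0
  split_ifs at h0 with he
  · exact h0
  · exact notMem_support_iff.1 he

end GrothLib.PrincipalParts
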